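import Groth.Agent.Lib.DPowH7.OfGens
import Mathlib.RingTheory.DividedPowers.DPMorphism
import Mathlib.RingTheory.Ideal.Maps
import Mathlib.Algebra.GroupWithZero.Torsion
import Mathlib.Algebra.Ring.GeomSum
import Mathlib.NumberTheory.Padics.PadicVal.Basic

/-!
Consequences: gluing along a sum of ideals, extension of principal ideals, torsion free rings.
-/

universe u v

open Nat

namespace Groth.Agent.DPowH7

section Sup

open PowerSeries

variable {A : Type u} [CommRing A] {I J : Ideal A} (γ : DividedPowers I) (δ : DividedPowers J)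
  (h : ∀ (n : ℕ) (x : A), x ∈ I ⊓ J → γ.dpow n x = δ.dpow n x)

include h in
theorem exp_mul_exp_congr {a b a' b' : A} (ha : a ∈ I) (hb : b ∈ J) (ha' : a' ∈ I) (hb' : b' ∈ J)
    (e : a + b = a' + b') : γ.exp a * δ.exp b = γ.exp a' * δ.exp b' := by
  have hc : a - a' ∈ I ⊓ J := ⟨I.sub_mem ha ha', by
    rw [show a - a' = b' - b by linear_combination e]; exact J.sub_mem hb' hb⟩
  have h1 : γ.exp a = γ.exp (a - a') * γ.exp a' := by rw [← γ.exp_add hc.1 ha', sub_add_cancel]
  have h2 : δ.exp b' = δ.exp (a - a') * δ.exp b := by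
    rw [← δ.exp_add hc.2 hb]; congr 1; linear_combination -e
  have h3 : γ.exp (a - a') = δ.exp (a - a') := by
    ext n; simp only [DividedPowers.exp, coeff_mk, h n _ hc]
  rw [h1, h2, h3]; ring

/-- Combined divided powers on a sum. -/
noncomputable def supDpow (n : ℕ) (z : A) : A :=
  open scoped Classical in
  if hz : ∃ a ∈ I, ∃ b ∈ J, a + b = z then
    coeff n (γ.exp hz.choose * δ.exp hz.choose_spec.2.choose)
  else 0

include h in
theorem supDpow_eq {a b : A} (ha : a ∈ I) (hb : b ∈ J) (n : ℕ) :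
    supDpow γ δ n (a + b) = coeff n (γ.exp a * δ.exp b) := by
  classical
  have hz : ∃ a' ∈ I, ∃ b' ∈ J, a' + b' = a + b := ⟨a, ha, b, hb, rfl⟩
  rw [supDpow, dif_pos hz,
    exp_mul_exp_congr γ δ h hz.choose_spec.1 hz.choose_spec.2.choose_spec.1 ha hb hz.choose_spec.2.choose_spec.2]

theorem exp_zero {K : Ideal A} (ε : DividedPowers K) : ε.exp 0 = 1 := by
  ext n
  simp only [DividedPowers.exp, coeff_mk, coeff_one]
  split_ifs with hn
  · subst hn; exact ε.dpow_zero K.zero_mem
  · exact ε.dpow_eval_zero hn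

include h in
theorem supDpow_left {a : A} (ha : a ∈ I) (n : ℕ) : supDpow γ δ n a = γ.dpow n a := by
  have := supDpow_eq γ δ h ha J.zero_mem n
  rwa [add_zero, exp_zero, mul_one, DividedPowers.exp, coeff_mk] at this

include h in
theorem supDpow_right {b : A} (hb : b ∈ J) (n : ℕ) : supDpow γ δ n b = δ.dpow n b := by
  have := supDpow_eq γ δ h I.zero_mem hb n
  rwa [zero_add, exp_zero, one_mul, DividedPowers.exp, coeff_mk] at this

include h in
theorem existsUnique_sup : ∃! ε : DividedPowers (I ⊔ J),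
    (∀ (n : ℕ) (x : A), x ∈ I → ε.dpow n x = γ.dpow n x) ∧
      (∀ (n : ℕ) (x : A), x ∈ J → ε.dpow n x = δ.dpow n x) := by
  classical
  have hS : Ideal.span ((I : Set A) ∪ J) = I ⊔ J := by rw [Ideal.span_union, Ideal.span_eq, Ideal.span_eq]
  have hcoe : ∀ (n : ℕ) (a b : A), coeff n (γ.exp a * δ.exp b) =
      (Finset.antidiagonal n).sum fun k => γ.dpow k.1 a * δ.dpow k.2 b := fun n a b => by
    simp only [coeff_mul, DividedPowers.exp, coeff_mk]
  let ε : DividedPowers (I ⊔ J) := ofGens (I ⊔ J) _ hS (supDpow γ δ)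
    (fun z hz => by
      obtain ⟨a, ha, b, hb, rfl⟩ := Submodule.mem_sup.mp hz
      rw [supDpow_eq γ δ h ha hb, hcoe]
      simp [γ.dpow_zero ha, δ.dpow_zero hb])
    (fun z hz => by
      obtain ⟨a, ha, b, hb, rfl⟩ := Submodule.mem_sup.mp hz
      rw [supDpow_eq γ δ h ha hb, hcoe]
      simp [Finset.Nat.antidiagonal_succ, γ.dpow_zero ha, δ.dpow_zero hb, γ.dpow_one ha, δ.dpow_one hb, add_comm])
    (fun n z hn hz => by
      obtain ⟨a, ha, b, hb, rfl⟩ := Submodule.mem_sup.mp hz
      rw [supDpow_eq γ δ h ha hb, hcoe]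
      refine Submodule.sum_mem _ fun k hk => ?_
      rw [Finset.mem_antidiagonal] at hk
      by_cases h1 : k.1 = 0
      · exact Ideal.mul_mem_left _ _ (Submodule.mem_sup_right (δ.dpow_mem (by omega) hb))
      · exact Ideal.mul_mem_right _ _ (Submodule.mem_sup_left (γ.dpow_mem h1 ha)))
    (fun n z w hz hw => by
      obtain ⟨a, ha, b, hb, rfl⟩ := Submodule.mem_sup.mp hz
      obtain ⟨a', ha', b', hb', rfl⟩ := Submodule.mem_sup.mp hw
      rw [add_add_add_comm, supDpow_eq γ δ h (I.add_mem ha ha') (J.add_mem hb hb'), γ.exp_add ha ha',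
        δ.exp_add hb hb', mul_mul_mul_comm, coeff_mul]
      exact Finset.sum_congr rfl fun k _ => by rw [supDpow_eq γ δ h ha hb, supDpow_eq γ δ h ha' hb'])
    (fun n r z hz => by
      obtain ⟨a, ha, b, hb, rfl⟩ := Submodule.mem_sup.mp hz
      rw [mul_add, supDpow_eq γ δ h (I.mul_mem_left r ha) (J.mul_mem_left r hb), supDpow_eq γ δ h ha hb,
        hcoe, hcoe, Finset.mul_sum]
      refine Finset.sum_congr rfl fun k hk => ?_
      rw [Finset.mem_antidiagonal] at hk
      rw [γ.dpow_mul ha, δ.dpow_mul hb, ← hk, pow_add]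
      ring)
    (fun n z hz => dif_neg fun ⟨a, ha, b, hb, e⟩ => hz (e ▸ Submodule.add_mem_sup ha hb))
    (fun m n x hx => by
      rcases hx with hx | hx
      · simp only [supDpow_left γ δ h hx]; exact γ.mul_dpow hx
      · simp only [supDpow_right γ δ h hx]; exact δ.mul_dpow hx)
    (fun m n x hn hx => by
      rcases hx with hx | hx
      · rw [supDpow_left γ δ h hx, supDpow_left γ δ h hx, supDpow_left γ δ h (γ.dpow_mem hn hx)]
        exact γ.dpow_comp hn hx
      · rw [supDpow_right γ δ h hx, supDpow_right γ δ h hx, supDpow_right γ δ h (δ.dpow_mem hn hx)]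
        exact δ.dpow_comp hn hx)
  refine ⟨ε, ⟨fun n x hx => supDpow_left γ δ h hx n, fun n x hx => supDpow_right γ δ h hx n⟩, fun ε' hε' => ?_⟩
  refine DividedPowers.ext _ _ fun n z hz => ?_
  obtain ⟨a, ha, b, hb, rfl⟩ := Submodule.mem_sup.mp hz
  rw [ε'.dpow_add (Submodule.mem_sup_left ha) (Submodule.mem_sup_right hb)]
  refine (Eq.trans ?_ ((supDpow_eq γ δ h ha hb n).trans (hcoe n a b)).symm)
  exact Finset.sum_congr rfl fun k _ => by rw [hε'.1 _ _ ha, hε'.2 _ _ hb]

end Sup

theorem exists_extension_span_singleton {A : Type u} {B : Type v} [CommRing A] [CommRing B] [Algebra A B]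
    (x : A) (γ : DividedPowers (Ideal.span {x})) :
    ∃ δ : DividedPowers ((Ideal.span {x}).map (algebraMap A B)), γ.IsDPMorphism δ (algebraMap A B) := by
  classical
  let f := algebraMap A B
  let K := (Ideal.span {x}).map f
  have hx : x ∈ Ideal.span {x} := Ideal.mem_span_singleton_self x
  have hK : K = Ideal.span {f x} := (Ideal.map_span f {x}).trans (by rw [Set.image_singleton])
  have hmem : ∀ z ∈ K, ∃ b : B, b * f x = z := fun z hz => Ideal.mem_span_singleton'.mp (hK ▸ hz)
  let d : ℕ → B → B := fun n z => if h : ∃ b : B, b * f x = z then h.choose ^ n * f (γ.dpow n x) else 0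
  have wd : ∀ (n : ℕ) (b b' : B), b * f x = b' * f x → b ^ n * f (γ.dpow n x) = b' ^ n * f (γ.dpow n x) := by
    intro n b b' e
    obtain rfl | hn := eq_or_ne n 0
    · rw [pow_zero, pow_zero]
    obtain ⟨c, hc⟩ := Ideal.mem_span_singleton'.mp (γ.dpow_mem hn hx)
    rw [← hc, map_mul, ← sub_eq_zero, ← sub_mul, ← geom_sum₂_mul b b' n]
    have h0 : (b - b') * f x = 0 := by rw [sub_mul, e, sub_self]
    linear_combination ((∑ i ∈ Finset.range n, b ^ i * b' ^ (n - 1 - i)) * f c) * h0
  have hd : ∀ (n : ℕ) (b : B), d n (b * f x) = b ^ n * f (γ.dpow n x) := fun n b => by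
    have h : ∃ b' : B, b' * f x = b * f x := ⟨b, rfl⟩
    simp only [d, dif_pos h]
    exact wd n _ _ h.choose_spec
  have hd1 : ∀ n, d n (f x) = f (γ.dpow n x) := fun n => by
    have := hd n 1
    rwa [one_mul, one_pow, one_mul] at this
  let δ : DividedPowers K := ofGens K {f x} hK.symm d
    (fun z hz => by obtain ⟨b, rfl⟩ := hmem z hz; rw [hd, pow_zero, γ.dpow_zero hx, map_one, mul_one])
    (fun z hz => by obtain ⟨b, rfl⟩ := hmem z hz; rw [hd, pow_one, γ.dpow_one hx])
    (fun n z hn hz => by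
      obtain ⟨b, rfl⟩ := hmem z hz
      rw [hd]
      exact K.mul_mem_left _ (Ideal.mem_map_of_mem f (γ.dpow_mem hn hx)))
    (fun n z w hz hw => by
      obtain ⟨b, rfl⟩ := hmem z hz
      obtain ⟨b', rfl⟩ := hmem w hw
      rw [← add_mul, hd, (Commute.all b b').add_pow', Finset.sum_mul]
      refine Finset.sum_congr rfl fun k hk => ?_
      rw [Finset.mem_antidiagonal] at hk
      subst hk
      have e := congrArg f (γ.mul_dpow (m := k.1) (n := k.2) hx)
      rw [map_mul, map_mul, map_natCast] at e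
      rw [hd, hd, nsmul_eq_mul]
      linear_combination -(b ^ k.1 * b' ^ k.2) * e)
    (fun n a z hz => by obtain ⟨b, rfl⟩ := hmem z hz; rw [← mul_assoc, hd, hd, mul_pow, mul_assoc])
    (fun n z hz => dif_neg fun ⟨b, e⟩ => hz (e ▸ K.mul_mem_left b (Ideal.mem_map_of_mem f hx)))
    (fun m n z hz => by
      rw [Set.mem_singleton_iff] at hz; subst hz
      rw [hd1, hd1, hd1, ← map_mul, γ.mul_dpow hx, map_mul, map_natCast])
    (fun m n z hn hz => by
      rw [Set.mem_singleton_iff] at hz; subst hz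
      obtain ⟨c, hc⟩ := Ideal.mem_span_singleton'.mp (γ.dpow_mem hn hx)
      rw [hd1, hd1, ← hc, map_mul, hd, ← map_pow, ← map_mul, ← γ.dpow_mul hx, hc, γ.dpow_comp hn hx, map_mul, map_natCast])
  refine ⟨δ, le_rfl, fun {n} a ha => ?_⟩
  obtain ⟨c, rfl⟩ := Ideal.mem_span_singleton'.mp ha
  rw [map_mul, γ.dpow_mul hx, map_mul, map_pow]
  exact hd n (f c)

theorem of_torsionFree {A : Type u} [CommRing A] [IsAddTorsionFree A] (I : Ideal A) :
    Subsingleton (DividedPowers I) ∧
    (Nonempty (DividedPowers I) ↔ ∃ S : Set A, Ideal.span S = I ∧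
      ∀ x ∈ S, ∀ n : ℕ, 1 ≤ n → x ^ n ∈ Ideal.span {(Nat.factorial n : A)} * I) := by
  classical
  have hinj : ∀ (n : ℕ) {a b : A}, (n ! : A) * a = (n ! : A) * b → a = b := fun n a b h => by
    rw [← nsmul_eq_mul, ← nsmul_eq_mul] at h
    exact nsmul_right_injective (Nat.factorial_ne_zero n) h
  refine ⟨⟨fun γ γ' => DividedPowers.ext _ _ fun n x hx => hinj n (by
    rw [γ.factorial_mul_dpow_eq_pow hx, γ'.factorial_mul_dpow_eq_pow hx])⟩, ?_, ?_⟩
  · rintro ⟨γ⟩
    exact ⟨I, Ideal.span_eq I, fun x hx n hn => by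
      rw [← γ.factorial_mul_dpow_eq_pow hx]
      exact Ideal.mul_mem_mul (Ideal.mem_span_singleton_self _) (γ.dpow_mem (by omega) hx)⟩
  rintro ⟨S, hS, hdiv⟩
  have hall : ∀ x ∈ I, ∀ n : ℕ, n ≠ 0 → ∃ y ∈ I, (n ! : A) * y = x ^ n := by
    intro x hx
    rw [← hS] at hx
    induction hx using Submodule.span_induction with
    | mem z hz => exact fun n hn => Ideal.mem_span_singleton_mul.mp (hdiv z hz n (by omega))
    | zero => exact fun n hn => ⟨0, I.zero_mem, by rw [mul_zero, zero_pow hn]⟩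
    | smul a z _ ih =>
      intro n hn
      obtain ⟨y, hy, e⟩ := ih n hn
      exact ⟨a ^ n * y, I.mul_mem_left _ hy, by rw [smul_eq_mul, mul_pow, ← e]; ring⟩
    | add u v _ _ ihu ihv =>
      intro n hn
      have hterm : ∀ k ∈ Finset.antidiagonal n, ∃ y ∈ I, (n ! : A) * y = n.choose k.1 • (u ^ k.1 * v ^ k.2) := by
        intro k hk
        rw [Finset.mem_antidiagonal] at hk
        subst hk
        have hc : ((k.1 + k.2).choose k.1 : A) * ((k.1)! : A) * ((k.2)! : A) = ((k.1 + k.2)! : A) := by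
          rw [Nat.choose_symm_add, ← Nat.cast_mul, ← Nat.cast_mul, Nat.add_choose_mul_factorial_mul_factorial]
        by_cases h1 : k.1 = 0
        · obtain ⟨y, hy, e⟩ := ihv k.2 (by omega)
          exact ⟨y, hy, by simp [h1, e]⟩
        by_cases h2 : k.2 = 0
        · obtain ⟨y, hy, e⟩ := ihu k.1 h1
          exact ⟨y, hy, by simp [h2, e]⟩
        obtain ⟨y, hy, e⟩ := ihu k.1 h1
        obtain ⟨y', -, e'⟩ := ihv k.2 h2
        exact ⟨y * y', I.mul_mem_right _ hy, by rw [nsmul_eq_mul, ← e, ← e', ← hc]; ring⟩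
      choose! y hy e using hterm
      refine ⟨∑ k ∈ Finset.antidiagonal n, y k, Submodule.sum_mem _ hy, ?_⟩
      rw [(Commute.all u v).add_pow', Finset.mul_sum]
      exact Finset.sum_congr rfl e
  have hall' : ∀ x ∈ I, ∀ n : ℕ, ∃ y, (n ≠ 0 → y ∈ I) ∧ (n ! : A) * y = x ^ n := fun x hx n => by
    obtain rfl | hn := eq_or_ne n 0
    · exact ⟨1, fun h => absurd rfl h, by simp⟩
    · obtain ⟨y, hy, e⟩ := hall x hx n hn; exact ⟨y, fun _ => hy, e⟩
  choose! g hg hge using hall'
  let d : ℕ → A → A := fun n x => if x ∈ I then g x n else 0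
  have hd : ∀ n, ∀ x ∈ I, (n ! : A) * d n x = x ^ n := fun n x hx => by simp only [d, if_pos hx]; exact hge x hx n
  have hdm : ∀ n x, n ≠ 0 → x ∈ I → d n x ∈ I := fun n x hn hx => by simp only [d, if_pos hx]; exact hg x hx n hn
  refine ⟨ofGens I I (Ideal.span_eq I) d (fun x hx => hinj 0 (by rw [hd 0 x hx]; simp))
    (fun x hx => hinj 1 (by rw [hd 1 x hx]; simp)) hdm (fun n x y hx hy => hinj n ?_) (fun n a x hx => hinj n ?_)
    (fun n x hx => if_neg hx) (fun m n x hx => hinj (m + n) ?_) (fun m n x hn hx => hinj (m * n) ?_)⟩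
  · rw [hd n _ (I.add_mem hx hy), (Commute.all x y).add_pow', Finset.mul_sum]
    refine Finset.sum_congr rfl fun k hk => ?_
    rw [Finset.mem_antidiagonal] at hk
    subst hk
    have hc : ((k.1 + k.2).choose k.1 : A) * ((k.1)! : A) * ((k.2)! : A) = ((k.1 + k.2)! : A) := by
      rw [Nat.choose_symm_add, ← Nat.cast_mul, ← Nat.cast_mul, Nat.add_choose_mul_factorial_mul_factorial]
    rw [nsmul_eq_mul, ← hd k.1 x hx, ← hd k.2 y hy, ← hc]; ring
  · rw [hd n _ (I.mul_mem_left a hx), mul_pow, ← hd n x hx]; ring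
  · have hc : ((m + n).choose m : A) * (m ! : A) * (n ! : A) = ((m + n)! : A) := by
      rw [Nat.choose_symm_add, ← Nat.cast_mul, ← Nat.cast_mul, Nat.add_choose_mul_factorial_mul_factorial]
    rw [← hc]
    calc _ = ((m + n).choose m : A) * (((m ! : A) * d m x) * ((n ! : A) * d n x)) := by ring
      _ = ((m + n).choose m : A) * x ^ (m + n) := by rw [hd m x hx, hd n x hx, pow_add]
      _ = _ := by rw [← hd (m + n) x hx, ← hc]; ring
  · have hb : (Nat.uniformBell m n : A) * (n ! : A) ^ m * (m ! : A) = ((m * n)! : A) := by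
      rw [← Nat.cast_pow, ← Nat.cast_mul, ← Nat.cast_mul, Nat.uniformBell_mul_eq m hn]
    rw [mul_left_comm _ (Nat.uniformBell m n : A), hd (m * n) x hx, ← hb]
    calc _ = (Nat.uniformBell m n : A) * (n ! : A) ^ m * ((m ! : A) * d m (d n x)) := by ring
      _ = (Nat.uniformBell m n : A) * ((n ! : A) * d n x) ^ m := by
        rw [hd m _ (hdm n x hn hx), mul_pow]; ring
      _ = _ := by rw [hd n x hx, ← pow_mul, mul_comm n m]

/-- If integers prime to `p` are invertible, divided powers are determined by the `p`-th one. -/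
theorem eq_iff_prime {A : Type u} [CommRing A] (p : ℕ) (hp : p.Prime)
    (hA : ∀ n : ℕ, ¬ p ∣ n → IsUnit (n : A)) {I : Ideal A} (γ γ' : DividedPowers I) :
    γ = γ' ↔ ∀ x ∈ I, γ.dpow p x = γ'.dpow p x := by
  refine ⟨fun h x _ => by rw [h], fun h => DividedPowers.ext _ _ fun n => ?_⟩
  induction n using Nat.strong_induction_on with
  | _ n ih =>
    intro x hx
    rcases Nat.eq_zero_or_pos n with rfl | hpos
    · rw [γ.dpow_zero hx, γ'.dpow_zero hx]
    by_cases hdvd : p ∣ n
    · obtain ⟨m, hm⟩ := hdvd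
      subst hm
      rcases Nat.lt_or_ge 1 m with h1 | h1
      · have hm0 : m ≠ 0 := by omega
        have hlt : m < p * m := lt_mul_of_one_lt_left (by omega) hp.one_lt
        have e1 := γ.dpow_comp (m := m) hp.ne_zero hx
        have e2 := γ'.dpow_comp (m := m) hp.ne_zero hx
        rw [← h x hx, ← ih m hlt (γ.dpow_mem hp.ne_zero hx), e1, mul_comm m p] at e2
        refine (hA _ ?_).mul_left_cancel e2
        intro hdiv
        haveI := Fact.mk hp
        have hval := congrArg (padicValNat p) (Nat.uniformBell_mul_eq m hp.ne_zero)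
        have hbell : Nat.uniformBell m p ≠ 0 := fun h0 => by
          have := Nat.uniformBell_mul_eq m hp.ne_zero
          rw [h0, zero_mul, zero_mul] at this
          exact Nat.factorial_ne_zero _ this.symm
        rw [padicValNat.mul (mul_ne_zero hbell (pow_ne_zero _ (Nat.factorial_ne_zero _))) (Nat.factorial_ne_zero _),
          padicValNat.mul hbell (pow_ne_zero _ (Nat.factorial_ne_zero _)), padicValNat.pow, mul_comm m p,
          padicValNat_factorial_mul] at hval
        have hp1 : padicValNat p p ! = 1 := by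
          have := padicValNat_factorial_mul (p := p) 1
          simpa using this
        rw [hp1] at hval
        have := (one_le_padicValNat_of_dvd hbell hdiv)
        omega
      · obtain rfl : m = 1 := by
          rcases m with _ | m
          · simp at hpos
          · omega
        rw [mul_one]
        exact h x hx
    · obtain ⟨k, rfl⟩ : ∃ k, n = k + 1 := ⟨n - 1, by omega⟩
      refine (hA _ hdvd).mul_left_cancel ?_
      have e1 := γ.mul_dpow (m := 1) (n := k) hx
      have e2 := γ'.mul_dpow (m := 1) (n := k) hx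
      rw [γ.dpow_one hx, Nat.choose_one_right, add_comm 1 k] at e1
      rw [γ'.dpow_one hx, Nat.choose_one_right, add_comm 1 k] at e2
      rw [← e1, ← e2, ih k (by omega) hx]

end Groth.Agent.DPowH7
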