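import Groth.Agent.Lib.DPowH7.ExpMod
import Groth.Agent.Lib.DPowH7.Cases
import Mathlib.LinearAlgebra.Basis.Defs
import Mathlib.LinearAlgebra.Basis.Submodule
import Mathlib.Algebra.BigOperators.Finsupp.Basic

/-!
The divided power polynomial algebra, presented by a basis of monomials.
-/

universe u v w

open Nat

namespace Groth.Agent.DPowH7

variable {R : Type u} [CommRing R] {Λ : Type w} {P : Type v} [CommRing P] [Algebra R P]

/-- The basis is multiplicative as divided power monomials. -/
structure IsDPBasis (x : Λ → ℕ → P) (b : Module.Basis (Λ →₀ ℕ) R P) : Prop where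
  x0 : ∀ l, x l 0 = 1
  xmul : ∀ l n m, x l n * x l m = ((n + m).choose n : P) * x l (n + m)
  hb : ∀ e : Λ →₀ ℕ, b e = e.prod (fun l k => x l k)

variable {x : Λ → ℕ → P} {b : Module.Basis (Λ →₀ ℕ) R P} (H : IsDPBasis x b)

/-- The product of the factorials of the exponents. -/
def factProd (e : Λ →₀ ℕ) : ℕ := e.prod fun _ k => k !

theorem factProd_ne_zero (e : Λ →₀ ℕ) : factProd e ≠ 0 :=
  Finset.prod_ne_zero_iff.mpr fun _ _ => Nat.factorial_ne_zero _

/-- The binomial coefficient of two exponents. -/
noncomputable def mchoose (e f : Λ →₀ ℕ) : ℕ := (e + f).prod fun l k => k.choose (e l)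

theorem mchoose_mul (e f : Λ →₀ ℕ) : mchoose e f * (factProd e * factProd f) = factProd (e + f) := by
  classical
  have hsub : ∀ g : Λ →₀ ℕ, g ≤ e + f → factProd g = ∏ l ∈ (e + f).support, (g l)! := fun g hg =>
    Finset.prod_subset (Finsupp.support_mono hg) fun l _ hl => by simp [Finsupp.notMem_support_iff.mp hl]
  rw [mchoose, Finsupp.prod, hsub e le_self_add, hsub f le_add_self, hsub (e + f) le_rfl,
    ← Finset.prod_mul_distrib, ← Finset.prod_mul_distrib]
  refine Finset.prod_congr rfl fun l _ => ?_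
  rw [Finsupp.add_apply, ← mul_assoc, Nat.choose_symm_add, Nat.add_choose_mul_factorial_mul_factorial]

include H in
theorem basis_mul (e f : Λ →₀ ℕ) : b e * b f = (mchoose e f : P) * b (e + f) := by
  classical
  have hsub : ∀ g : Λ →₀ ℕ, g ≤ e + f → b g = ∏ l ∈ (e + f).support, x l (g l) := fun g hg => by
    rw [H.hb, Finsupp.prod]
    exact Finset.prod_subset (Finsupp.support_mono hg) fun l _ hl => by simp [Finsupp.notMem_support_iff.mp hl, H.x0]
  rw [hsub e le_self_add, hsub f le_add_self, hsub (e + f) le_rfl, mchoose, Finsupp.prod, Nat.cast_prod,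
    ← Finset.prod_mul_distrib, ← Finset.prod_mul_distrib]
  refine Finset.prod_congr rfl fun l _ => ?_
  rw [Finsupp.add_apply]
  exact H.xmul l _ _

include H in
theorem basis_zero : b 0 = 1 := by rw [H.hb, Finsupp.prod_zero_index]

include H in
theorem basis_single (l : Λ) (k : ℕ) : b (Finsupp.single l k) = x l k := by
  rw [H.hb, Finsupp.prod_single_index (H.x0 l)]

variable (b) in
/-- The pair of the rational and the given monomial. -/
noncomputable def mon (e : Λ →₀ ℕ) : MvPolynomial Λ ℚ × P :=
  (MvPolynomial.monomial e ((factProd e : ℚ)⁻¹), b e)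

variable (b) in
/-- The subgroup of pairs. -/
noncomputable def pairs : Submodule ℤ (MvPolynomial Λ ℚ × P) := Submodule.span ℤ (Set.range (mon b))

theorem mon_mem (e : Λ →₀ ℕ) : mon b e ∈ pairs b := Submodule.subset_span ⟨e, rfl⟩

include H in
theorem mon_mul (e f : Λ →₀ ℕ) : mon b e * mon b f = mchoose e f • mon b (e + f) := by
  refine Prod.ext ?_ ?_
  · simp only [mon, Prod.fst_mul, Prod.smul_fst, MvPolynomial.monomial_mul]
    rw [← map_nsmul (MvPolynomial.monomial (e + f))]
    congr 1
    have h : (mchoose e f : ℚ) * ((factProd e : ℚ) * (factProd f : ℚ)) = (factProd (e + f) : ℚ) := by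
      exact_mod_cast mchoose_mul e f
    have n1 : (factProd (e + f) : ℚ) ≠ 0 := by exact_mod_cast factProd_ne_zero _
    have n2 : (factProd e : ℚ) ≠ 0 := by exact_mod_cast factProd_ne_zero _
    have n3 : (factProd f : ℚ) ≠ 0 := by exact_mod_cast factProd_ne_zero _
    rw [nsmul_eq_mul]
    field_simp
    linear_combination -h
  · simp only [mon, Prod.snd_mul, Prod.smul_snd, nsmul_eq_mul]
    exact basis_mul H e f

include H in
theorem pairs_mul {p q : MvPolynomial Λ ℚ × P} (hp : p ∈ pairs b) (hq : q ∈ pairs b) : p * q ∈ pairs b := by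
  induction hp using Submodule.span_induction with
  | zero => rw [zero_mul]; exact zero_mem _
  | add u v _ _ hu hv => rw [add_mul]; exact add_mem hu hv
  | smul c u _ hu => rw [smul_mul_assoc]; exact Submodule.smul_mem _ c hu
  | mem u hu =>
    obtain ⟨e, rfl⟩ := hu
    induction hq using Submodule.span_induction with
    | zero => rw [mul_zero]; exact zero_mem _
    | add u v _ _ hu hv => rw [mul_add]; exact add_mem hu hv
    | smul c u _ hu => rw [mul_smul_comm]; exact Submodule.smul_mem _ c hu
    | mem v hv =>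
      obtain ⟨f, rfl⟩ := hv
      rw [mon_mul H]
      exact nsmul_mem (mon_mem _) _

include H in
theorem mon_zero : mon b 0 = 1 := by
  refine Prod.ext ?_ ?_
  · simp [mon, factProd]
  · simp [mon, basis_zero H]

include H in
theorem pairs_pow {p : MvPolynomial Λ ℚ × P} (hp : p ∈ pairs b) : ∀ k : ℕ, p ^ k ∈ pairs b
  | 0 => by rw [pow_zero, ← mon_zero H]; exact mon_mem 0
  | k + 1 => by rw [pow_succ]; exact pairs_mul H (pairs_pow hp k) hp

theorem pairs_eq {q : MvPolynomial Λ ℚ} {a c : P} (ha : (q, a) ∈ pairs b) (hc : (q, c) ∈ pairs b) : a = c := by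
  classical
  have h : ((0 : MvPolynomial Λ ℚ), a - c) ∈ pairs b := by simpa using sub_mem ha hc
  obtain ⟨k, hk⟩ := Finsupp.mem_span_range_iff_exists_finsupp.mp h
  have hk0 : k = 0 := by
    ext e
    by_contra hne
    have h1 := congrArg (fun t : MvPolynomial Λ ℚ × P => MvPolynomial.coeff e t.1) hk
    simp only [Finsupp.sum, Prod.fst_sum, Prod.smul_fst, mon, MvPolynomial.coeff_sum, MvPolynomial.coeff_zero,
      ← map_zsmul, MvPolynomial.coeff_monomial] at h1
    rw [Finset.sum_ite_eq' k.support e, if_pos (Finsupp.mem_support_iff.mpr hne), zsmul_eq_mul] at h1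
    rcases mul_eq_zero.mp h1 with h1 | h1
    · exact hne (by exact_mod_cast h1)
    · exact factProd_ne_zero e (by exact_mod_cast inv_eq_zero.mp h1)
  rw [hk0, Finsupp.sum_zero_index] at hk
  exact sub_eq_zero.mp (congrArg Prod.snd hk).symm

/-- The coefficient of `X^[m e]` in the `m`-th divided power of `X^[e]`. -/
noncomputable def dcoef (e : Λ →₀ ℕ) (m : ℕ) : ℕ :=
  open scoped Classical in
  if h : e.support.Nonempty then
    Nat.uniformBell m (e h.choose) * ∏ l ∈ e.support.erase h.choose, Nat.uniformBell m (e l) * m !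
  else 0

theorem dcoef_spec (e : Λ →₀ ℕ) (he : e ≠ 0) (m : ℕ) :
    dcoef e m * m ! * factProd e ^ m = factProd (m • e) := by
  classical
  have hs : e.support.Nonempty := Finsupp.support_nonempty_iff.mpr he
  have hne : ∀ l ∈ e.support, e l ≠ 0 := fun l hl => Finsupp.mem_support_iff.mp hl
  have hR : factProd (m • e) = ∏ l ∈ e.support, (m * e l)! :=
    (Finset.prod_subset Finsupp.support_smul fun l _ hl => by simp [Finsupp.notMem_support_iff.mp hl]).trans
      (Finset.prod_congr rfl fun l _ => by simp)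
  rw [hR, dcoef, dif_pos hs, factProd, Finsupp.prod, ← Finset.prod_pow]
  set l₀ := hs.choose
  rw [← Finset.mul_prod_erase e.support (fun l => (e l)! ^ m) hs.choose_spec,
    ← Finset.mul_prod_erase e.support (fun l => (m * e l)!) hs.choose_spec]
  have hp : (∏ l ∈ e.support.erase l₀, Nat.uniformBell m (e l) * m !) * ∏ l ∈ e.support.erase l₀, (e l)! ^ m =
      ∏ l ∈ e.support.erase l₀, (m * e l)! := by
    rw [← Finset.prod_mul_distrib]
    refine Finset.prod_congr rfl fun l hl => ?_
    rw [← Nat.uniformBell_mul_eq m (hne l (Finset.mem_of_mem_erase hl))]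
    ring
  rw [← hp, ← Nat.uniformBell_mul_eq m (hne l₀ hs.choose_spec)]
  ring

/-- The divided power sequence of a monomial. -/
noncomputable def monExp (e : Λ →₀ ℕ) : Exp P :=
  open scoped Classical in
  if he : e ≠ 0 then
    { val := fun m => (dcoef e m : P) * b (m • e)
      zero' := by
        have h := dcoef_spec e he 0
        rw [zero_smul] at h ⊢
        simp [factProd] at h
        rw [basis_zero H, h]; simp
      mul' := fun m n => by
        have key : ∀ j, ((j ! : ℚ)⁻¹ • (mon b e).1 ^ j, (dcoef e j : P) * b (j • e)) ∈ pairs b := fun j => by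
          have h : ((j ! : ℚ)⁻¹ • (mon b e).1 ^ j, (dcoef e j : P) * b (j • e)) = dcoef e j • mon b (j • e) := by
            refine Prod.ext ?_ ?_
            · simp only [mon, Prod.smul_fst, MvPolynomial.monomial_pow]
              rw [← map_smul, ← map_nsmul (MvPolynomial.monomial (j • e))]
              congr 1
              have h := dcoef_spec e he j
              have hq : (dcoef e j : ℚ) * (j ! : ℚ) * (factProd e : ℚ) ^ j = (factProd (j • e) : ℚ) := by exact_mod_cast h
              have n1 : (factProd (j • e) : ℚ) ≠ 0 := by exact_mod_cast factProd_ne_zero _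
              have n2 : (factProd e : ℚ) ≠ 0 := by exact_mod_cast factProd_ne_zero _
              have n3 : (j ! : ℚ) ≠ 0 := by exact_mod_cast Nat.factorial_ne_zero _
              rw [nsmul_eq_mul, smul_eq_mul, inv_pow]
              field_simp
              linear_combination -hq
            · simp [mon, nsmul_eq_mul]
          rw [h]
          exact nsmul_mem (mon_mem _) _
        refine pairs_eq (pairs_mul H (key m) (key n)) ?_
        convert nsmul_mem (key (m + n)) ((m + n).choose m) using 1
        refine Prod.ext ?_ ?_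
        · simp only [Prod.fst_mul, Prod.smul_fst, smul_mul_smul_comm, ← pow_add]
          rw [← Nat.cast_smul_eq_nsmul ℚ, smul_smul]
          congr 1
          have h := choose_cast_mul m n
          have n1 : ((m + n)! : ℚ) ≠ 0 := by exact_mod_cast Nat.factorial_ne_zero _
          field_simp
          linear_combination -h
        · simp [nsmul_eq_mul] }
  else 0

/-- A realisation of a sequence in the subgroup of pairs. -/
def Real (b : Module.Basis (Λ →₀ ℕ) R P) (q : MvPolynomial Λ ℚ) (f : Exp P) : Prop :=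
  ∀ j, ((j ! : ℚ)⁻¹ • q ^ j, f.val j) ∈ pairs b

theorem real_monExp (e : Λ →₀ ℕ) (he : e ≠ 0) : Real b (mon b e).1 (monExp H e) := by
  classical
  intro j
  have h : ((j ! : ℚ)⁻¹ • (mon b e).1 ^ j, (monExp H e).val j) = dcoef e j • mon b (j • e) := by
    refine Prod.ext ?_ ?_
    · simp only [mon, Prod.smul_fst, MvPolynomial.monomial_pow]
      rw [← map_smul, ← map_nsmul (MvPolynomial.monomial (j • e))]
      congr 1
      have h := dcoef_spec e he j
      have hq : (dcoef e j : ℚ) * (j ! : ℚ) * (factProd e : ℚ) ^ j = (factProd (j • e) : ℚ) := by exact_mod_cast h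
      have n1 : (factProd (j • e) : ℚ) ≠ 0 := by exact_mod_cast factProd_ne_zero _
      have n2 : (factProd e : ℚ) ≠ 0 := by exact_mod_cast factProd_ne_zero _
      have n3 : (j ! : ℚ) ≠ 0 := by exact_mod_cast Nat.factorial_ne_zero _
      rw [nsmul_eq_mul, smul_eq_mul, inv_pow]
      field_simp
      linear_combination -hq
    · simp [monExp, dif_pos he, mon, nsmul_eq_mul]
  rw [h]
  exact nsmul_mem (mon_mem _) _

include H in
theorem Real.smul {q : MvPolynomial Λ ℚ} {f : Exp P} (hf : Real b q f) {r : MvPolynomial Λ ℚ × P}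
    (hr : r ∈ pairs b) : Real b (r.1 * q) (r.2 • f) := fun j => by
  have h : ((j ! : ℚ)⁻¹ • (r.1 * q) ^ j, (r.2 • f).val j) = r ^ j * ((j ! : ℚ)⁻¹ • q ^ j, f.val j) := by
    refine Prod.ext ?_ ?_
    · simp only [Prod.fst_mul, Prod.pow_fst, mul_pow, mul_smul_comm]
    · simp [Exp.val_smul']
  rw [h]
  exact pairs_mul H (pairs_pow H hr j) (hf j)

theorem Real.ext {q : MvPolynomial Λ ℚ} {f g : Exp P} (hf : Real b q f) (hg : Real b q g) : f = g :=
  Exp.ext (funext fun j => pairs_eq (hf j) (hg j))

variable (b) in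
/-- The linear map to exponential sequences on monomials. -/
noncomputable def monMap : P →ₗ[R] Exp P :=
  b.constr R (monExp H)

include H in
theorem monMap_mul_basis (f e : Λ →₀ ℕ) (he : e ≠ 0) :
    monMap b H (b f * b e) = b f • monMap b H (b e) := by
  have hfe : f + e ≠ 0 := fun h => he (by simp_all [add_eq_zero])
  have hcast : ((mchoose f e : ℕ) : P) * b (f + e) = (mchoose f e : R) • b (f + e) := by
    rw [Algebra.smul_def, map_natCast]
  rw [basis_mul H, hcast, map_smul, monMap, Module.Basis.constr_basis, Module.Basis.constr_basis]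
  refine Real.ext (b := b) (q := (mon b f).1 * (mon b e).1) ?_ ((real_monExp H e he).smul H (mon_mem f))
  have h1 : ((mchoose f e • (1 : MvPolynomial Λ ℚ × P))) ∈ pairs b :=
    nsmul_mem (mon_zero H ▸ mon_mem 0) _
  have h2 := (real_monExp H (f + e) hfe).smul H h1
  have e1 : (mchoose f e • (1 : MvPolynomial Λ ℚ × P)).1 * (mon b (f + e)).1 = (mon b f).1 * (mon b e).1 := by
    have h := congrArg Prod.fst (mon_mul H f e)
    simp only [Prod.fst_mul, Prod.smul_fst] at h
    rw [h, Prod.smul_fst, Prod.fst_one, smul_mul_assoc, one_mul]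
  rw [e1] at h2
  convert h2 using 2
  ext j
  simp [Exp.val_smul]

variable (x) in
/-- The augmentation ideal. -/
def augIdeal : Ideal P := Ideal.span {y : P | ∃ (l : Λ) (n : ℕ), 1 ≤ n ∧ y = x l n}

include H in
theorem basis_mem_aug (e : Λ →₀ ℕ) (he : e ≠ 0) : b e ∈ augIdeal x := by
  classical
  obtain ⟨l, hl⟩ := Finsupp.support_nonempty_iff.mpr he
  rw [H.hb, Finsupp.prod, ← Finset.mul_prod_erase _ _ hl]
  exact Ideal.mul_mem_right _ _ (Ideal.subset_span ⟨l, e l, Nat.one_le_iff_ne_zero.mpr (Finsupp.mem_support_iff.mp hl), rfl⟩)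

include H in
theorem mem_aug_span {z : P} (hz : z ∈ augIdeal x) :
    z ∈ Submodule.span R (b '' {e | e ≠ 0}) := by
  induction hz using Submodule.span_induction with
  | mem y hy =>
    obtain ⟨l, n, hn, rfl⟩ := hy
    rw [← basis_single H]
    exact Submodule.subset_span ⟨_, fun h => by
      have := DFunLike.congr_fun h l
      simp at this
      omega, rfl⟩
  | zero => exact zero_mem _
  | add u v _ _ hu hv => exact add_mem hu hv
  | smul a u hu0 hu =>
    clear hu0
    rw [smul_eq_mul]
    induction hu using Submodule.span_induction with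
    | zero => rw [mul_zero]; exact zero_mem _
    | add u v _ _ hu hv => rw [mul_add]; exact add_mem hu hv
    | smul c u _ hu => rw [mul_smul_comm]; exact Submodule.smul_mem _ c hu
    | mem v hv =>
      obtain ⟨e, he, rfl⟩ := hv
      induction (b.mem_span a) using Submodule.span_induction with
      | zero => rw [zero_mul]; exact zero_mem _
      | add u v _ _ hu hv => rw [add_mul]; exact add_mem hu hv
      | smul c u _ hu => rw [smul_mul_assoc]; exact Submodule.smul_mem _ c hu
      | mem w hw =>
        obtain ⟨f, rfl⟩ := hw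
        rw [basis_mul H, ← nsmul_eq_mul]
        exact nsmul_mem (Submodule.subset_span (Set.mem_image_of_mem b (show f + e ∈ {e : Λ →₀ ℕ | e ≠ 0} from fun h => he (by simp_all [add_eq_zero])))) _

include H in
theorem monMap_mul (a z : P) (hz : z ∈ augIdeal x) : monMap b H (a * z) = a • monMap b H z := by
  have hz' := mem_aug_span H hz
  clear hz
  induction hz' using Submodule.span_induction with
  | zero => rw [mul_zero, map_zero, smul_zero]
  | add u v _ _ hu hv => rw [mul_add, map_add, map_add, hu, hv, smul_add]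
  | smul c u _ hu =>
    rw [mul_smul_comm, map_smul, map_smul, hu]
    rw [← IsScalarTower.algebraMap_smul P c (monMap b H u), ← IsScalarTower.algebraMap_smul P c (a • monMap b H u), smul_comm]
  | mem v hv =>
    obtain ⟨e, he, rfl⟩ := hv
    induction (b.mem_span a) using Submodule.span_induction with
    | zero => rw [zero_mul, map_zero, zero_smul]
    | add u v _ _ hu hv => rw [add_mul, map_add, hu, hv, add_smul]
    | smul c u _ hu => rw [smul_mul_assoc, map_smul, hu, smul_assoc]
    | mem w hw =>
      obtain ⟨f, rfl⟩ := hw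
      exact monMap_mul_basis H f e he

variable (b) in
/-- The linear map on the augmentation ideal. -/
noncomputable def augMap : augIdeal x →ₗ[P] Exp P where
  toFun z := monMap b H z
  map_add' z w := map_add _ _ _
  map_smul' a z := monMap_mul H a z z.2

theorem augMap_basis (e : Λ →₀ ℕ) (he : e ≠ 0) :
    augMap b H ⟨b e, basis_mem_aug H e he⟩ = monExp H e :=
  b.constr_basis R _ _

include H in
theorem exists_dividedPowers : ∃ γ : DividedPowers (augIdeal x), ∀ l n, γ.dpow n (x l 1) = x l n := by
  classical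
  have hP : ∀ (P' : augIdeal x → Exp P → Prop), P' 0 0 →
      (∀ u v : augIdeal x, P' u (augMap b H u) → P' v (augMap b H v) → P' (u + v) (augMap b H u + augMap b H v)) →
      (∀ (c : R) (u : augIdeal x), P' u (augMap b H u) → P' (c • u) (c • augMap b H u)) →
      (∀ e (he : e ≠ 0), P' ⟨b e, basis_mem_aug H e he⟩ (monExp H e)) → ∀ z, P' z (augMap b H z) := by
    intro P' h0 hadd hsmul hb' z
    obtain ⟨z, hz⟩ := z
    have hz' := mem_aug_span H hz
    have key : ∀ z, z ∈ Submodule.span R (b '' {e | e ≠ 0}) → ∀ hz : z ∈ augIdeal x, P' ⟨z, hz⟩ (monMap b H z) ∧ True := by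
      intro z hz'
      have hsub : ∀ z ∈ Submodule.span R (b '' {e | e ≠ 0}), z ∈ augIdeal x := fun z hz => by
        induction hz using Submodule.span_induction with
        | zero => exact zero_mem _
        | add u v _ _ hu hv => exact add_mem hu hv
        | smul c u _ hu => exact Submodule.smul_of_tower_mem _ c hu
        | mem v hv => obtain ⟨e, he, rfl⟩ := hv; exact basis_mem_aug H e he
      induction hz' using Submodule.span_induction with
      | zero => intro hz; exact ⟨by rw [map_zero]; exact h0, trivial⟩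
      | add u v hu hv ihu ihv =>
        intro hz
        refine ⟨?_, trivial⟩
        rw [map_add]
        exact hadd ⟨u, hsub u hu⟩ ⟨v, hsub v hv⟩ (ihu _).1 (ihv _).1
      | smul c u hu ih =>
        intro hz
        refine ⟨?_, trivial⟩
        rw [map_smul]
        exact hsmul c ⟨u, hsub u hu⟩ (ih _).1
      | mem v hv =>
        obtain ⟨e, he, rfl⟩ := hv
        intro hz
        refine ⟨?_, trivial⟩
        rw [monMap, Module.Basis.constr_basis]
        exact hb' e he
    exact (key z hz' hz).1
  have hone : ∀ e (he : e ≠ 0), (monExp H e).val 1 = b e := fun e he => by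
    have h := real_monExp H e he 1
    rw [Nat.factorial_one, Nat.cast_one, inv_one, one_smul, pow_one] at h
    exact pairs_eq h (mon_mem e)
  have h1 : ∀ z : augIdeal x, (augMap b H z).val 1 = z := by
    refine hP (fun z f => f.val 1 = z) (by simp [Exp.val_zero]) ?_ ?_ hone
    · intro u v hu hv
      rw [Exp.val_add, Submodule.coe_add]
      conv_rhs => rw [← hu, ← hv]
      simp [Finset.Nat.antidiagonal_succ, Exp.zero', add_comm]
    · intro c u hu
      rw [Exp.val_smul, pow_one, hu, SetLike.val_smul_of_tower, Algebra.smul_def]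
  have hmem : ∀ n, n ≠ 0 → ∀ z : augIdeal x, (augMap b H z).val n ∈ augIdeal x := by
    intro n hn z
    refine hP (fun _ f => ∀ n, n ≠ 0 → f.val n ∈ augIdeal x) ?_ ?_ ?_ ?_ z n hn
    · intro n hn; rw [Exp.val_zero, if_neg hn]; exact zero_mem _
    · intro u v hu hv n hn
      rw [Exp.val_add]
      refine Submodule.sum_mem _ fun k hk => ?_
      rw [Finset.mem_antidiagonal] at hk
      by_cases h : k.1 = 0
      · exact Ideal.mul_mem_left _ _ (hv _ (by omega))
      · exact Ideal.mul_mem_right _ _ (hu _ h)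
    · intro c u hu n hn
      rw [Exp.val_smul]
      exact Ideal.mul_mem_left _ _ (hu n hn)
    · intro e he n hn
      simp only [monExp, dif_pos he]
      exact Ideal.mul_mem_left _ _ (basis_mem_aug H _ (smul_ne_zero hn he))
  have hS : Ideal.span (b '' {e | e ≠ 0}) = augIdeal x := by
    refine le_antisymm (Ideal.span_le.mpr ?_) (Ideal.span_le.mpr ?_)
    · rintro _ ⟨e, he, rfl⟩; exact basis_mem_aug H e he
    · rintro _ ⟨l, n, hn, rfl⟩
      rw [← basis_single H]
      exact Ideal.subset_span ⟨_, fun h => by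
        have := DFunLike.congr_fun h l
        simp at this
        omega, rfl⟩
  let γ := ofExpMap (augIdeal x) (augMap b H) h1 hmem _ hS (fun m n hn z hz => by
    obtain ⟨e, he, hez⟩ := hz
    replace he : e ≠ 0 := he
    have hz' : z = ⟨b e, basis_mem_aug H e he⟩ := Subtype.ext hez.symm
    subst hz'
    have hv : (augMap b H ⟨b e, basis_mem_aug H e he⟩).val n = (dcoef e n : P) * b (n • e) := by
      rw [augMap_basis H e he, monExp, dif_pos he]
    have hsm : (⟨(augMap b H ⟨b e, basis_mem_aug H e he⟩).val n, hmem n hn _⟩ : augIdeal x) =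
        (dcoef e n : P) • ⟨b (n • e), basis_mem_aug H _ (smul_ne_zero hn he)⟩ := Subtype.ext hv
    rw [hsm, map_smul, augMap_basis H _ (smul_ne_zero hn he), augMap_basis H e he]
    have hk : (((dcoef e n • (1 : MvPolynomial Λ ℚ × P)))) ∈ pairs b := nsmul_mem (mon_zero H ▸ mon_mem 0) _
    have hL := ((real_monExp H _ (smul_ne_zero hn he)).smul H hk) m
    rw [show (dcoef e n • (1 : MvPolynomial Λ ℚ × P)).2 = (dcoef e n : P) by simp] at hL
    refine pairs_eq hL ?_
    have hR := nsmul_mem (real_monExp H e he (m * n)) (Nat.uniformBell m n)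
    convert hR using 1
    refine Prod.ext ?_ ?_
    · have p1 : (dcoef e n • (1 : MvPolynomial Λ ℚ × P)).1 * (mon b (n • e)).1 =
          MvPolynomial.monomial (n • e) ((dcoef e n : ℚ) * (factProd (n • e) : ℚ)⁻¹) := by
        rw [Prod.smul_fst, Prod.fst_one, smul_mul_assoc, one_mul, mon, ← map_nsmul, nsmul_eq_mul]
      show (m ! : ℚ)⁻¹ • ((dcoef e n • (1 : MvPolynomial Λ ℚ × P)).1 * (mon b (n • e)).1) ^ m =
        Nat.uniformBell m n • (((m * n)! : ℚ)⁻¹ • (mon b e).1 ^ (m * n))
      rw [p1]
      simp only [mon, MvPolynomial.monomial_pow, ← map_smul, ← map_nsmul]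
      rw [← mul_smul m n e]
      congr 1
      simp only [smul_eq_mul, nsmul_eq_mul]
      have hd : (dcoef e n : ℚ) * (n ! : ℚ) * (factProd e : ℚ) ^ n = (factProd (n • e) : ℚ) := by exact_mod_cast dcoef_spec e he n
      have hb' : (Nat.uniformBell m n : ℚ) * (n ! : ℚ) ^ m * (m ! : ℚ) = ((m * n)! : ℚ) := by
        exact_mod_cast Nat.uniformBell_mul_eq m hn
      have n1 : (factProd (n • e) : ℚ) ≠ 0 := by exact_mod_cast factProd_ne_zero _
      have n2 : (factProd e : ℚ) ≠ 0 := by exact_mod_cast factProd_ne_zero _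
      have n3 : (m ! : ℚ) ≠ 0 := by exact_mod_cast Nat.factorial_ne_zero _
      have n4 : ((m * n)! : ℚ) ≠ 0 := by exact_mod_cast Nat.factorial_ne_zero _
      rw [← hd, ← hb']
      simp only [smul_eq_mul, mul_pow, inv_pow, ← pow_mul, mul_inv]
      have n5 : (n ! : ℚ) ≠ 0 := by exact_mod_cast Nat.factorial_ne_zero _
      have n6 : (Nat.uniformBell m n : ℚ) ≠ 0 := fun h0 => n4 (by rw [← hb', h0]; ring)
      have n7 : (dcoef e n : ℚ) ≠ 0 := fun h0 => n1 (by rw [← hd, h0]; ring)
      field_simp
      ring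
    · simp [nsmul_eq_mul])
  refine ⟨γ, fun l n => ?_⟩
  have he : (Finsupp.single l 1 : Λ →₀ ℕ) ≠ 0 := Finsupp.single_ne_zero.mpr one_ne_zero
  have h1' : x l 1 ∈ augIdeal x := Ideal.subset_span ⟨l, 1, le_rfl, rfl⟩
  show expDpow (augIdeal x) (augMap b H) n (x l 1) = _
  rw [expDpow_eq _ _ h1']
  have e1 : (⟨x l 1, h1'⟩ : augIdeal x) = ⟨b (Finsupp.single l 1), basis_mem_aug H _ he⟩ :=
    Subtype.ext (basis_single H l 1).symm
  rw [e1, augMap_basis H _ he]
  have hL := real_monExp H _ he n
  rw [← basis_single H l n]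
  refine pairs_eq hL ?_
  convert mon_mem (b := b) (Finsupp.single l n) using 1
  refine Prod.ext ?_ rfl
  simp only [mon, MvPolynomial.monomial_pow]
  rw [← map_smul]
  simp [factProd]

include H in
theorem dividedPowers_unique (γ γ' : DividedPowers (augIdeal x)) (h : ∀ l n, γ.dpow n (x l 1) = x l n)
    (h' : ∀ l n, γ'.dpow n (x l 1) = x l n) : γ = γ' := by
  refine (DividedPowers.dpow_eq_from_gens γ γ' (S := {y : P | ∃ (l : Λ) (n : ℕ), 1 ≤ n ∧ y = x l n}) rfl ?_).symm
  rintro m _ ⟨l, n, hn, rfl⟩
  have h1 : x l 1 ∈ augIdeal x := Ideal.subset_span ⟨l, 1, le_rfl, rfl⟩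
  have e := γ.dpow_comp (m := m) (n := n) (by omega) h1
  have e' := γ'.dpow_comp (m := m) (n := n) (by omega) h1
  rw [h, h] at e
  rw [h', h'] at e'
  rw [e, e']

include H in
theorem existsUnique_dividedPowers :
    ∃! γ : DividedPowers (augIdeal x), ∀ l n, γ.dpow n (x l 1) = x l n := by
  obtain ⟨γ, hγ⟩ := exists_dividedPowers H
  exact ⟨γ, hγ, fun γ' h' => dividedPowers_unique H γ' γ h' hγ⟩

include H in
theorem existsUnique_algHom {S : Type*} [CommRing S] [Algebra R S] (γ : DividedPowers (augIdeal x))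
    (hγ : ∀ l n, γ.dpow n (x l 1) = x l n) {J : Ideal S} (δ : DividedPowers J) (s : Λ → S) (hs : ∀ i, s i ∈ J) :
    ∃! φ : P →ₐ[R] S, γ.IsDPMorphism δ φ.toRingHom ∧ ∀ i, φ (x i 1) = s i := by
  classical
  let g : (Λ →₀ ℕ) → S := fun e => e.prod fun l k => δ.dpow k (s l)
  have hmul : ∀ e f, g e * g f = (mchoose e f : S) * g (e + f) := by
    intro e f
    have hsub : ∀ g' : Λ →₀ ℕ, g' ≤ e + f → g g' = ∏ l ∈ (e + f).support, δ.dpow (g' l) (s l) := fun g' hg =>
      Finset.prod_subset (Finsupp.support_mono hg) fun l _ hl => by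
        simp [Finsupp.notMem_support_iff.mp hl, δ.dpow_zero (hs l)]
    rw [hsub e le_self_add, hsub f le_add_self, hsub (e + f) le_rfl, mchoose, Finsupp.prod, Nat.cast_prod,
      ← Finset.prod_mul_distrib, ← Finset.prod_mul_distrib]
    exact Finset.prod_congr rfl fun l _ => δ.mul_dpow (hs l)
  let L : P →ₗ[R] S := b.constr R g
  have hL : ∀ e, L (b e) = g e := b.constr_basis R g
  let φ : P →ₐ[R] S := AlgHom.ofLinearMap L (by rw [← basis_zero H, hL]; simp [g])
    (fun u v => by
      induction (b.mem_span u) using Submodule.span_induction with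
      | zero => rw [zero_mul, map_zero, zero_mul]
      | add u u' _ _ hu hu' => rw [add_mul, map_add, hu, hu', map_add, add_mul]
      | smul c u _ hu => rw [smul_mul_assoc, map_smul, hu, map_smul, smul_mul_assoc]
      | mem w hw =>
        obtain ⟨e, rfl⟩ := hw
        induction (b.mem_span v) using Submodule.span_induction with
        | zero => rw [mul_zero, map_zero, mul_zero]
        | add u u' _ _ hu hu' => rw [mul_add, map_add, hu, hu', map_add, mul_add]
        | smul c u _ hu => rw [mul_smul_comm, map_smul, hu, map_smul, mul_smul_comm]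
        | mem w hw =>
          obtain ⟨f, rfl⟩ := hw
          rw [basis_mul H, ← nsmul_eq_mul, map_nsmul, hL, hL, hL, hmul, nsmul_eq_mul])
  have hφ : ∀ l n, φ (x l n) = δ.dpow n (s l) := fun l n => by
    rw [← basis_single H]
    show L (b _) = _
    rw [hL]
    exact Finsupp.prod_single_index (δ.dpow_zero (hs l))
  refine ⟨φ, ⟨?_, fun i => by rw [hφ, δ.dpow_one (hs i)]⟩, ?_⟩
  · have hgen : ∀ y ∈ {y : P | ∃ (l : Λ) (n : ℕ), 1 ≤ n ∧ y = x l n}, φ.toRingHom y ∈ J := by
      rintro _ ⟨l, n, hn, rfl⟩
      show φ (x l n) ∈ J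
      rw [hφ]; exact δ.dpow_mem (by omega) (hs l)
    refine DividedPowers.IsDPMorphism.on_span γ δ (S := {y : P | ∃ (l : Λ) (n : ℕ), 1 ≤ n ∧ y = x l n}) rfl hgen ?_
    rintro m _ ⟨l, n, hn, rfl⟩
    show φ (γ.dpow m (x l n)) = δ.dpow m (φ (x l n))
    have h1 : x l 1 ∈ augIdeal x := Ideal.subset_span ⟨l, 1, le_rfl, rfl⟩
    rw [← hγ l n, γ.dpow_comp (by omega) h1, hγ, hγ, map_mul, map_natCast, hφ, hφ, δ.dpow_comp (by omega) (hs l)]
  · rintro ψ ⟨hψ, hψ1⟩
    refine AlgHom.toLinearMap_injective (b.ext fun e => ?_)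
    show ψ (b e) = L (b e)
    rw [hL, H.hb, map_finsuppProd]
    refine Finsupp.prod_congr fun l _ => ?_
    have h1 : x l 1 ∈ augIdeal x := Ideal.subset_span ⟨l, 1, le_rfl, rfl⟩
    rw [← hγ l (e l), ← hψ1 l]
    exact (hψ.2 _ h1).symm

end Groth.Agent.DPowH7
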