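import Mathlib.RingTheory.DividedPowers.Basic
import Mathlib.Algebra.MvPolynomial.Basic
import Mathlib.Algebra.MvPolynomial.Division
import Mathlib.Algebra.Algebra.Rat
import Mathlib.LinearAlgebra.Finsupp.LinearCombination
import Mathlib.Tactic.FieldSimp
import Mathlib.Tactic.LinearCombination
import Mathlib.Tactic.Ring

/-!
Identities between divided powers of two elements, transferred from `ℚ[X, Y]`.

For two elements with multiplicative divided powers, the pairs
`(X^[i] Y^[j], dᵢ x * dⱼ y)` span a subring of `ℚ[X, Y] × A` (after inverting naturals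
that are units of `A`) on which the first projection is injective.
-/

universe u

open Nat

namespace Groth.Agent.DPowH7

variable {A : Type u} [CommRing A] (d : ℕ → A → A) (x y : A)

/-- The pair of the rational and the given divided power monomial. -/
noncomputable def gen (e : ℕ × ℕ) : MvPolynomial (Fin 2) ℚ × A :=
  ((((e.1)! : ℚ) * ((e.2)! : ℚ))⁻¹ • (MvPolynomial.X 0 ^ e.1 * MvPolynomial.X 1 ^ e.2), d e.1 x * d e.2 y)

/-- Pairs expressed by divided power monomials with coefficients in naturals inverted in `A`. -/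
def Mem (q : MvPolynomial (Fin 2) ℚ × A) : Prop :=
  ∃ N : ℕ, N ≠ 0 ∧ IsUnit (N : A) ∧ N • q ∈ Submodule.span ℤ (Set.range (gen d x y))

/-- Multiplicativity of the divided powers of one element. -/
structure Mult (z : A) : Prop where
  zero : d 0 z = 1
  mul : ∀ m n, d m z * d n z = ((m + n).choose m : A) * d (m + n) z

variable {d x y}

theorem mem_of_span {q : MvPolynomial (Fin 2) ℚ × A}
    (h : q ∈ Submodule.span ℤ (Set.range (gen d x y))) : Mem d x y q :=
  ⟨1, one_ne_zero, by rw [Nat.cast_one]; exact isUnit_one, by rw [one_smul]; exact h⟩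

theorem mem_gen (e : ℕ × ℕ) : Mem d x y (gen d x y e) := mem_of_span (Submodule.subset_span ⟨e, rfl⟩)

theorem mem_zero : Mem d x y 0 := mem_of_span (zero_mem _)

theorem mem_nsmul {q : MvPolynomial (Fin 2) ℚ × A} (k : ℕ) (h : Mem d x y q) : Mem d x y (k • q) := by
  obtain ⟨N, h0, hN, h⟩ := h
  exact ⟨N, h0, hN, by rw [smul_comm]; exact nsmul_mem h k⟩

theorem mem_add {q r : MvPolynomial (Fin 2) ℚ × A} (hq : Mem d x y q) (hr : Mem d x y r) :
    Mem d x y (q + r) := by
  obtain ⟨N, h0, hN, hq⟩ := hq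
  obtain ⟨M, h0', hM, hr⟩ := hr
  refine ⟨N * M, mul_ne_zero h0 h0', by rw [Nat.cast_mul]; exact hN.mul hM, ?_⟩
  rw [smul_add]
  refine add_mem ?_ ?_
  · rw [mul_comm, mul_smul]; exact nsmul_mem hq M
  · rw [mul_smul]; exact nsmul_mem hr N

theorem mem_sum {ι : Type*} (s : Finset ι) (q : ι → MvPolynomial (Fin 2) ℚ × A)
    (h : ∀ i ∈ s, Mem d x y (q i)) : Mem d x y (∑ i ∈ s, q i) := by
  classical
  induction s using Finset.induction with
  | empty => rw [Finset.sum_empty]; exact mem_zero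
  | insert a t ha ih =>
    rw [Finset.sum_insert ha]
    exact mem_add (h a (Finset.mem_insert_self a t)) (ih fun i hi => h i (Finset.mem_insert_of_mem hi))

/-- Division by a natural number which is a unit of `A`. -/
theorem mem_div {q : MvPolynomial (Fin 2) ℚ × A} {k : ℕ} (hk0 : k ≠ 0) (hk : IsUnit (k : A))
    (h : Mem d x y (k • q)) : Mem d x y q := by
  obtain ⟨N, h0, hN, h⟩ := h
  exact ⟨N * k, mul_ne_zero h0 hk0, by rw [Nat.cast_mul]; exact hN.mul hk, by rw [mul_smul]; exact h⟩

theorem choose_cast_mul (a b : ℕ) :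
    ((a + b).choose a : ℚ) * ((a ! : ℚ) * (b ! : ℚ)) = ((a + b)! : ℚ) := by
  rw [← mul_assoc, Nat.choose_symm_add]
  exact_mod_cast Nat.add_choose_mul_factorial_mul_factorial a b

theorem gen_mul (hx : Mult d x) (hy : Mult d y) (e f : ℕ × ℕ) :
    gen d x y e * gen d x y f =
      ((e.1 + f.1).choose e.1 * (e.2 + f.2).choose e.2) • gen d x y (e + f) := by
  refine Prod.ext ?_ ?_
  · simp only [gen, Prod.fst_mul, Prod.smul_fst, Prod.fst_add, Prod.snd_add, smul_mul_smul_comm]
    rw [← Nat.cast_smul_eq_nsmul ℚ, smul_smul, pow_add, pow_add]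
    congr 1
    · have h1 := choose_cast_mul e.1 f.1
      have h2 := choose_cast_mul e.2 f.2
      have n1 : ((e.1 + f.1)! : ℚ) ≠ 0 := by exact_mod_cast Nat.factorial_ne_zero _
      have n2 : ((e.2 + f.2)! : ℚ) ≠ 0 := by exact_mod_cast Nat.factorial_ne_zero _
      push_cast
      field_simp
      linear_combination -(((e.1 + f.1).choose e.1 : ℚ) * ((e.1)! : ℚ) * ((f.1)! : ℚ)) * h2 - ((e.2 + f.2)! : ℚ) * h1
    · ring
  · simp only [gen, Prod.snd_mul, Prod.smul_snd, Prod.fst_add, Prod.snd_add]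
    rw [mul_mul_mul_comm, hx.mul, hy.mul, nsmul_eq_mul, Nat.cast_mul]
    ring

theorem mem_mul (hx : Mult d x) (hy : Mult d y) {q r : MvPolynomial (Fin 2) ℚ × A}
    (hq : Mem d x y q) (hr : Mem d x y r) : Mem d x y (q * r) := by
  obtain ⟨N, h0, hN, hq⟩ := hq
  obtain ⟨M, h0', hM, hr⟩ := hr
  refine ⟨N * M, mul_ne_zero h0 h0', by rw [Nat.cast_mul]; exact hN.mul hM, ?_⟩
  rw [← smul_mul_smul_comm]
  generalize N • q = a at hq ⊢
  generalize M • r = b at hr ⊢
  induction hq using Submodule.span_induction with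
  | zero => rw [zero_mul]; exact zero_mem _
  | add u v _ _ hu hv => rw [add_mul]; exact add_mem hu hv
  | smul c u _ hu => rw [smul_mul_assoc]; exact Submodule.smul_mem _ c hu
  | mem u hu =>
    obtain ⟨e, rfl⟩ := hu
    induction hr using Submodule.span_induction with
    | zero => rw [mul_zero]; exact zero_mem _
    | add u v _ _ hu hv => rw [mul_add]; exact add_mem hu hv
    | smul c u _ hu => rw [mul_smul_comm]; exact Submodule.smul_mem _ c hu
    | mem v hv =>
      obtain ⟨f, rfl⟩ := hv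
      rw [gen_mul hx hy]
      exact nsmul_mem (Submodule.subset_span (Set.mem_range_self _)) _

theorem gen_zero (hx : Mult d x) (hy : Mult d y) : gen d x y (0, 0) = 1 := by
  refine Prod.ext ?_ ?_ <;> simp [gen, hx.zero, hy.zero]

theorem mem_one (hx : Mult d x) (hy : Mult d y) : Mem d x y 1 := gen_zero hx hy ▸ mem_gen (0, 0)

theorem mem_pow (hx : Mult d x) (hy : Mult d y) {q : MvPolynomial (Fin 2) ℚ × A} (hq : Mem d x y q) :
    ∀ k : ℕ, Mem d x y (q ^ k)
  | 0 => by rw [pow_zero]; exact mem_one hx hy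
  | k + 1 => by rw [pow_succ]; exact mem_mul hx hy (mem_pow hx hy hq k) hq

/-- Two pairs with the same rational polynomial have the same value in `A`. -/
theorem snd_eq {p : MvPolynomial (Fin 2) ℚ} {a b : A} (ha : Mem d x y (p, a)) (hb : Mem d x y (p, b)) :
    a = b := by
  obtain ⟨N, h0, hN, ha⟩ := ha
  obtain ⟨M, h0', hM, hb⟩ := hb
  have h1 : ((N * M) • ((p, a) : MvPolynomial (Fin 2) ℚ × A) - (N * M) • ((p, b) : MvPolynomial (Fin 2) ℚ × A)) ∈
      Submodule.span ℤ (Set.range (gen d x y)) :=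
    sub_mem (by rw [mul_comm, mul_smul]; exact nsmul_mem ha M) (by rw [mul_smul]; exact nsmul_mem hb N)
  obtain ⟨c, hc⟩ := Finsupp.mem_span_range_iff_exists_finsupp.mp h1
  have hfst : (c.sum fun e r => r • (gen d x y e).1) = 0 := by
    have h := congrArg Prod.fst hc
    simp only [Finsupp.sum, Prod.fst_sum, Prod.fst_sub, Prod.smul_fst, sub_self] at h
    exact h
  have hc0 : c = 0 := by
    classical
    ext e
    by_contra hne
    have h := congrArg (MvPolynomial.coeff (Finsupp.single 0 e.1 + Finsupp.single 1 e.2)) hfst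
    simp only [Finsupp.sum, MvPolynomial.coeff_sum, MvPolynomial.coeff_zero, gen, MvPolynomial.X_pow_eq_monomial,
      MvPolynomial.monomial_mul, one_mul, ← Int.cast_smul_eq_zsmul ℚ, smul_smul, MvPolynomial.coeff_smul,
      MvPolynomial.coeff_monomial] at h
    rw [Finset.sum_eq_single e] at h
    · rw [if_pos rfl] at h
      have n1 : ((e.1)! : ℚ) ≠ 0 := by exact_mod_cast Nat.factorial_ne_zero _
      have n2 : ((e.2)! : ℚ) ≠ 0 := by exact_mod_cast Nat.factorial_ne_zero _
      simp [n1, n2] at h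
      exact hne (by exact_mod_cast h)
    · intro f _ hf
      rw [if_neg, smul_zero]
      intro heq
      refine hf (Prod.ext ?_ ?_)
      · simpa using DFunLike.congr_fun heq 0
      · simpa using DFunLike.congr_fun heq 1
    · intro he
      exact absurd (Finsupp.mem_support_iff.mpr hne) he
  rw [hc0, Finsupp.sum_zero_index] at hc
  have h2 := congrArg Prod.snd hc
  simp only [Prod.snd_sub, Prod.smul_snd, Prod.snd_zero, nsmul_eq_mul] at h2
  have hu : IsUnit ((N * M : ℕ) : A) := by rw [Nat.cast_mul]; exact hN.mul hM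
  exact hu.mul_left_cancel (sub_eq_zero.mp h2.symm)

variable (I : Ideal A)

/-- `q` has divided powers up to `n` inside the subring. -/
def DP (n : ℕ) (d : ℕ → A → A) (x y : A) (I : Ideal A) (q : MvPolynomial (Fin 2) ℚ × A) : Prop :=
  q.2 ∈ I ∧ ∀ j ≤ n, Mem d x y ((j ! : ℚ)⁻¹ • q.1 ^ j, d j q.2)

variable {I}

theorem DP.add (hx : Mult d x) (hy : Mult d y) {n : ℕ}
    (hadd : ∀ j ≤ n, ∀ a b : A, a ∈ I → b ∈ I →
      d j (a + b) = (Finset.antidiagonal j).sum fun k => d k.1 a * d k.2 b)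
    {q r : MvPolynomial (Fin 2) ℚ × A} (hq : DP n d x y I q) (hr : DP n d x y I r) :
    DP n d x y I (q + r) := by
  refine ⟨I.add_mem hq.1 hr.1, fun j hj => ?_⟩
  have key : ((j ! : ℚ)⁻¹ • (q + r).1 ^ j, d j (q + r).2) = (Finset.antidiagonal j).sum fun k =>
      (((k.1)! : ℚ)⁻¹ • q.1 ^ k.1, d k.1 q.2) * (((k.2)! : ℚ)⁻¹ • r.1 ^ k.2, d k.2 r.2) := by
    refine Prod.ext ?_ ?_
    · simp only [Prod.fst_sum, Prod.fst_mul, Prod.fst_add, smul_mul_smul_comm]
      rw [(Commute.all q.1 r.1).add_pow', Finset.smul_sum]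
      refine Finset.sum_congr rfl fun k hk => ?_
      rw [Finset.mem_antidiagonal] at hk
      subst hk
      rw [← Nat.cast_smul_eq_nsmul ℚ, smul_smul]
      congr 1
      have h1 := choose_cast_mul k.1 k.2
      have n0 : ((k.1 + k.2)! : ℚ) ≠ 0 := by exact_mod_cast Nat.factorial_ne_zero _
      field_simp
      linear_combination h1
    · simp only [Prod.snd_sum, Prod.snd_mul, Prod.snd_add]
      exact hadd j hj _ _ hq.1 hr.1
  rw [key]
  exact mem_sum _ _ fun k hk => by
    rw [Finset.mem_antidiagonal] at hk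
    exact mem_mul hx hy (hq.2 _ (by omega)) (hr.2 _ (by omega))

theorem DP.mul (hx : Mult d x) (hy : Mult d y) {n : ℕ}
    (hmul : ∀ j ≤ n, ∀ a b : A, b ∈ I → d j (a * b) = a ^ j * d j b)
    {q r : MvPolynomial (Fin 2) ℚ × A} (hq : Mem d x y q) (hr : DP n d x y I r) :
    DP n d x y I (q * r) := by
  refine ⟨I.mul_mem_left _ hr.1, fun j hj => ?_⟩
  have key : ((j ! : ℚ)⁻¹ • (q * r).1 ^ j, d j (q * r).2) = q ^ j * ((j ! : ℚ)⁻¹ • r.1 ^ j, d j r.2) := by
    refine Prod.ext ?_ ?_
    · simp only [Prod.fst_mul, Prod.pow_fst, mul_pow, mul_smul_comm]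
    · simp only [Prod.snd_mul, Prod.pow_snd]
      exact hmul j hj _ _ hr.1
  rw [key]
  exact mem_mul hx hy (mem_pow hx hy hq j) (hr.2 j hj)

end Groth.Agent.DPowH7
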