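import Groth.Agent.Lib.DPowH7.OfGens
import Mathlib.RingTheory.PowerSeries.Basic
import Mathlib.RingTheory.DividedPowers.DPMorphism
import Mathlib.RingTheory.Flat.Basic
import Mathlib.RingTheory.TensorProduct.Basic
import Mathlib.LinearAlgebra.TensorProduct.Tower

/-!
The module of exponential sequences, and divided powers defined by a linear map into it.
-/

universe u v

open Nat

namespace Groth.Agent.DPowH7

/-- Sequences behaving like the divided powers of one element. -/
@[ext]
structure Exp (B : Type v) [CommRing B] where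
  /-- The terms of the sequence. -/
  val : ℕ → B
  zero' : val 0 = 1
  mul' : ∀ m n, val m * val n = ((m + n).choose m : B) * val (m + n)

namespace Exp

variable {B : Type v} [CommRing B]

/-- The power series of a sequence. -/
def toPS (f : Exp B) : PowerSeries B := PowerSeries.mk f.val

theorem toPS_injective : Function.Injective (toPS (B := B)) := fun f g h =>
  Exp.ext (funext fun n => by simpa [toPS] using congrArg (PowerSeries.coeff n) h)

theorem add_mul' (f g : Exp B) (m n : ℕ) :
    ((Finset.antidiagonal m).sum fun k => f.val k.1 * g.val k.2) * ((Finset.antidiagonal n).sum fun k => f.val k.1 * g.val k.2) =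
      ((m + n).choose m : B) * (Finset.antidiagonal (m + n)).sum fun k => f.val k.1 * g.val k.2 := by
  classical
  rcases subsingleton_or_nontrivial B with hB | hB
  · exact Subsingleton.elim _ _
  let d : ℕ → B → B := fun i z => if z = 0 then f.val i else g.val i
  have hd0 : ∀ i, d i 0 = f.val i := fun i => if_pos rfl
  have hd1 : ∀ i, d i 1 = g.val i := fun i => if_neg one_ne_zero
  have hx : Mult d (0 : B) := ⟨by rw [hd0, f.zero'], fun a b => by rw [hd0, hd0, hd0, f.mul']⟩
  have hy : Mult d (1 : B) := ⟨by rw [hd1, g.zero'], fun a b => by rw [hd1, hd1, hd1, g.mul']⟩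
  let Z : MvPolynomial (Fin 2) ℚ := MvPolynomial.X 0 + MvPolynomial.X 1
  have hmem : ∀ i, Mem d (0 : B) 1 ((i ! : ℚ)⁻¹ • Z ^ i, (Finset.antidiagonal i).sum fun k => f.val k.1 * g.val k.2) := by
    intro i
    have e : ((i ! : ℚ)⁻¹ • Z ^ i, (Finset.antidiagonal i).sum fun k => f.val k.1 * g.val k.2) =
        (Finset.antidiagonal i).sum (gen d (0 : B) 1) := by
      refine Prod.ext ?_ ?_
      · simp only [Z, gen, Prod.fst_sum]
        rw [(Commute.all _ _).add_pow', Finset.smul_sum]
        refine Finset.sum_congr rfl fun k hk => ?_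
        rw [Finset.mem_antidiagonal] at hk
        subst hk
        rw [← Nat.cast_smul_eq_nsmul ℚ, smul_smul]
        congr 1
        have h1 := choose_cast_mul k.1 k.2
        have n0 : ((k.1 + k.2)! : ℚ) ≠ 0 := by exact_mod_cast Nat.factorial_ne_zero _
        field_simp
        linear_combination h1
      · simp only [gen, Prod.snd_sum, hd0, hd1]
    rw [e]
    exact mem_sum _ _ fun k _ => mem_gen k
  refine snd_eq (mem_mul hx hy (hmem m) (hmem n)) ?_
  convert mem_nsmul ((m + n).choose m) (hmem (m + n)) using 1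
  refine Prod.ext ?_ ?_
  · simp only [Prod.fst_mul, Prod.smul_fst, smul_mul_smul_comm, ← pow_add]
    rw [← Nat.cast_smul_eq_nsmul ℚ, smul_smul]
    congr 1
    have h := choose_cast_mul m n
    have n1 : ((m + n)! : ℚ) ≠ 0 := by exact_mod_cast Nat.factorial_ne_zero _
    field_simp
    linear_combination -h
  · simp [nsmul_eq_mul]

instance : Add (Exp B) :=
  ⟨fun f g => ⟨fun n => (Finset.antidiagonal n).sum fun k => f.val k.1 * g.val k.2,
    by simp [f.zero', g.zero'], add_mul' f g⟩⟩

instance : Zero (Exp B) :=
  ⟨⟨fun n => if n = 0 then 1 else 0, if_pos rfl, fun m n => by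
    rcases Nat.eq_zero_or_pos m with rfl | hm
    · simp
    · simp [Nat.ne_of_gt hm]⟩⟩

instance {S : Type u} [CommRing S] [Algebra S B] : SMul S (Exp B) :=
  ⟨fun r f => ⟨fun n => algebraMap S B r ^ n * f.val n, by simp [f.zero'],
    fun m n => by rw [mul_mul_mul_comm, f.mul', pow_add]; ring⟩⟩

theorem val_add (f g : Exp B) (n : ℕ) :
    (f + g).val n = (Finset.antidiagonal n).sum fun k => f.val k.1 * g.val k.2 := rfl

theorem val_zero (n : ℕ) : (0 : Exp B).val n = if n = 0 then 1 else 0 := rfl

theorem val_smul {S : Type u} [CommRing S] [Algebra S B] (r : S) (f : Exp B) (n : ℕ) :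
    (r • f).val n = algebraMap S B r ^ n * f.val n := rfl

theorem val_smul' (r : B) (f : Exp B) (n : ℕ) : (r • f).val n = r ^ n * f.val n := rfl

theorem toPS_add (f g : Exp B) : (f + g).toPS = f.toPS * g.toPS := by
  ext n
  simp [toPS, PowerSeries.coeff_mul, val_add]

theorem toPS_zero : (0 : Exp B).toPS = 1 := by
  ext n
  simp [toPS, PowerSeries.coeff_one, val_zero]

instance : Neg (Exp B) := ⟨fun f => (-1 : B) • f⟩

theorem smul_add_smul (r s : B) (f : Exp B) : r • f + s • f = (r + s) • f := by
  ext n
  rw [val_add, val_smul', (Commute.all r s).add_pow', Finset.sum_mul]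
  refine Finset.sum_congr rfl fun k hk => ?_
  rw [Finset.mem_antidiagonal] at hk
  subst hk
  rw [val_smul', val_smul', nsmul_eq_mul]
  linear_combination (r ^ k.1 * s ^ k.2) * f.mul' k.1 k.2

theorem one_smul' (f : Exp B) : (1 : B) • f = f := by ext n; simp [val_smul']

theorem zero_smul' (f : Exp B) : (0 : B) • f = 0 := by
  ext n
  rw [val_smul', val_zero]
  split_ifs with h
  · subst h; simp [f.zero']
  · simp [zero_pow h]

instance : AddCommGroup (Exp B) where
  add_assoc f g h := toPS_injective (by simp only [toPS_add, mul_assoc])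
  zero_add f := toPS_injective (by simp only [toPS_add, toPS_zero, one_mul])
  add_zero f := toPS_injective (by simp only [toPS_add, toPS_zero, mul_one])
  add_comm f g := toPS_injective (by simp only [toPS_add, mul_comm])
  nsmul := nsmulRec
  zsmul := zsmulRec
  neg_add_cancel f := by
    show (-1 : B) • f + f = 0
    conv_lhs => arg 2; rw [← one_smul' f]
    rw [smul_add_smul, neg_add_cancel, zero_smul']

instance {S : Type u} [CommRing S] [Algebra S B] : Module S (Exp B) where
  one_smul f := by ext n; simp [val_smul]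
  mul_smul r s f := by ext n; simp [val_smul, mul_pow, mul_assoc]
  smul_zero r := by
    ext n
    rw [val_smul, val_zero]
    split_ifs with h <;> simp [h]
  smul_add r f g := by
    ext n
    rw [val_add, val_smul, val_add, Finset.mul_sum]
    refine Finset.sum_congr rfl fun k hk => ?_
    rw [Finset.mem_antidiagonal] at hk
    rw [val_smul, val_smul, ← hk, pow_add]
    ring
  add_smul r s f := by
    show ((r + s) • f : Exp B) = r • f + s • f
    have e : ∀ (t : S), (t • f : Exp B) = algebraMap S B t • f := fun t => rfl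
    rw [e, e, e, map_add, smul_add_smul]
  zero_smul f := by
    show ((0 : S) • f : Exp B) = 0
    have e : ((0 : S) • f : Exp B) = algebraMap S B 0 • f := rfl
    rw [e, map_zero, zero_smul']

instance {S : Type u} [CommRing S] [Algebra S B] : IsScalarTower S B (Exp B) :=
  ⟨fun r b f => by ext n; simp [val_smul, Algebra.smul_def, mul_pow, mul_assoc]⟩

end Exp

section ofExpMap

variable {B : Type v} [CommRing B] (K : Ideal B) (E : K →ₗ[B] Exp B)

/-- The divided power functions attached to a linear map into exponential sequences. -/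
noncomputable def expDpow (n : ℕ) (z : B) : B :=
  open scoped Classical in if h : z ∈ K then (E ⟨z, h⟩).val n else 0

theorem expDpow_eq {z : B} (hz : z ∈ K) (n : ℕ) : expDpow K E n z = (E ⟨z, hz⟩).val n := by
  rw [expDpow, dif_pos hz]

/-- Divided powers from a linear map into exponential sequences. -/
noncomputable def ofExpMap (h1 : ∀ z : K, (E z).val 1 = z) (hmem : ∀ n, n ≠ 0 → ∀ z : K, (E z).val n ∈ K)
    (S : Set B) (hS : Ideal.span S = K)
    (hcomp : ∀ (m n : ℕ) (hn : n ≠ 0) (z : K), (z : B) ∈ S →
      (E ⟨(E z).val n, hmem n hn z⟩).val m = Nat.uniformBell m n * (E z).val (m * n)) :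
    DividedPowers K :=
  ofGens K S hS (expDpow K E)
    (fun z hz => by rw [expDpow_eq K E hz]; exact Exp.zero' _)
    (fun z hz => by rw [expDpow_eq K E hz]; exact h1 ⟨z, hz⟩)
    (fun n z hn hz => by rw [expDpow_eq K E hz]; exact hmem n hn _)
    (fun n z w hz hw => by
      rw [expDpow_eq K E (K.add_mem hz hw)]
      rw [show (⟨z + w, K.add_mem hz hw⟩ : K) = ⟨z, hz⟩ + ⟨w, hw⟩ from rfl, map_add, Exp.val_add]
      exact Finset.sum_congr rfl fun k _ => by rw [expDpow_eq K E hz, expDpow_eq K E hw])
    (fun n a z hz => by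
      rw [expDpow_eq K E (K.mul_mem_left a hz), expDpow_eq K E hz,
        show (⟨a * z, K.mul_mem_left a hz⟩ : K) = a • (⟨z, hz⟩ : K) from rfl, map_smul, Exp.val_smul'])
    (fun n z hz => dif_neg hz)
    (fun m n z hz => by
      have hzK : z ∈ K := hS ▸ Ideal.subset_span hz
      simp only [expDpow_eq K E hzK]
      exact Exp.mul' _ m n)
    (fun m n z hn hz => by
      have hzK : z ∈ K := hS ▸ Ideal.subset_span hz
      simp only [expDpow_eq K E hzK]
      rw [expDpow_eq K E (hmem n hn _)]
      exact hcomp m n hn ⟨z, hzK⟩ hz)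

end ofExpMap

section flat

open TensorProduct

variable {A : Type u} {B : Type v} [CommRing A] [CommRing B] [Algebra A B] {I : Ideal A} (γ : DividedPowers I)

/-- The exponential sequence in `B` of an element of `I`. -/
noncomputable def expOf : I →ₗ[A] Exp B where
  toFun z := ⟨fun n => algebraMap A B (γ.dpow n z), by rw [γ.dpow_zero z.2, map_one],
    fun m n => by rw [← map_mul, γ.mul_dpow z.2, map_mul, map_natCast]⟩
  map_add' z w := by
    ext n
    rw [Exp.val_add]
    show algebraMap A B (γ.dpow n ((z : A) + w)) = _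
    rw [γ.dpow_add z.2 w.2, map_sum]
    exact Finset.sum_congr rfl fun k _ => map_mul _ _ _
  map_smul' r z := by
    ext n
    show algebraMap A B (γ.dpow n (r * (z : A))) = algebraMap A B r ^ n * algebraMap A B (γ.dpow n z)
    rw [γ.dpow_mul z.2, map_mul, map_pow]

theorem extension_unique (δ δ' : DividedPowers (I.map (algebraMap A B)))
    (h : γ.IsDPMorphism δ (algebraMap A B)) (h' : γ.IsDPMorphism δ' (algebraMap A B)) : δ = δ' := by
  refine (DividedPowers.dpow_eq_from_gens δ δ' (S := algebraMap A B '' I) rfl ?_).symm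
  rintro n _ ⟨a, ha, rfl⟩
  exact (h.2 a ha).trans (h'.2 a ha).symm

theorem exists_extension_of_flat [Module.Flat A B] :
    ∃ δ : DividedPowers (I.map (algebraMap A B)), γ.IsDPMorphism δ (algebraMap A B) := by
  let K := I.map (algebraMap A B)
  let j : B ⊗[A] I →ₗ[B] B := ((Algebra.linearMap A B) ∘ₗ I.subtype).liftBaseChange B
  have hjmem : ∀ t, j t ∈ K := fun t => by
    induction t using TensorProduct.induction_on with
    | zero => rw [map_zero]; exact K.zero_mem
    | add a b ha hb => rw [map_add]; exact K.add_mem ha hb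
    | tmul b z =>
      show b • algebraMap A B z ∈ K
      exact K.mul_mem_left b (Ideal.mem_map_of_mem _ z.2)
  let jK : B ⊗[A] I →ₗ[B] K := LinearMap.codRestrict K j hjmem
  have hinj : Function.Injective jK := by
    have hcomp : (j.restrictScalars A) = (TensorProduct.rid A B).toLinearMap ∘ₗ I.subtype.lTensor B := by
      refine TensorProduct.ext' fun b z => ?_
      simp [j, Algebra.smul_def, mul_comm]
    have : Function.Injective j := by
      show Function.Injective (j.restrictScalars A)
      rw [hcomp]
      exact (TensorProduct.rid A B).injective.comp (Module.Flat.lTensor_preserves_injective_linearMap _ I.injective_subtype)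
    exact fun a b h => this (congrArg Subtype.val h)
  have hsurj : Function.Surjective jK := fun z => by
    have hle : K ≤ LinearMap.range j := by
      refine Ideal.map_le_iff_le_comap.mpr fun a ha => ⟨1 ⊗ₜ ⟨a, ha⟩, ?_⟩
      simp [j]
    obtain ⟨t, ht⟩ := hle z.2
    exact ⟨t, Subtype.ext ht⟩
  let e := LinearEquiv.ofBijective jK ⟨hinj, hsurj⟩
  let Φ : B ⊗[A] I →ₗ[B] Exp B := (expOf γ).liftBaseChange B
  let E : K →ₗ[B] Exp B := Φ ∘ₗ e.symm.toLinearMap
  have hE : ∀ a (ha : a ∈ I), E ⟨algebraMap A B a, Ideal.mem_map_of_mem _ ha⟩ = expOf γ ⟨a, ha⟩ := fun a ha => by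
    have : e.symm ⟨algebraMap A B a, Ideal.mem_map_of_mem _ ha⟩ = (1 : B) ⊗ₜ[A] (⟨a, ha⟩ : I) := by
      rw [LinearEquiv.symm_apply_eq]
      exact Subtype.ext (by simp [e, jK, j])
    show Φ (e.symm _) = _
    rw [this]
    simp [Φ]
  have hall : ∀ (P : K → Exp B → Prop), (∀ t, P (e t) (Φ t)) → ∀ z, P z (E z) := fun P h z => by
    have := h (e.symm z)
    rwa [e.apply_symm_apply] at this
  have h1 : ∀ z : K, (E z).val 1 = z := by
    refine hall (fun z f => f.val 1 = z) fun t => ?_
    induction t using TensorProduct.induction_on with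
    | zero => simp [Exp.val_zero]
    | add a b ha hb =>
      rw [map_add, map_add, Exp.val_add, Submodule.coe_add, ← ha, ← hb]
      simp [Finset.Nat.antidiagonal_succ, Exp.zero', add_comm]
    | tmul b z =>
      show (b • expOf γ z).val 1 = (j (b ⊗ₜ z))
      rw [Exp.val_smul', pow_one]
      show b * algebraMap A B (γ.dpow 1 z) = b • algebraMap A B z
      rw [γ.dpow_one z.2]; rfl
  have hmem : ∀ n, n ≠ 0 → ∀ z : K, (E z).val n ∈ K := by
    refine fun n hn => hall (fun _ f => f.val n ∈ K) fun t => ?_
    induction t using TensorProduct.induction_on generalizing n with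
    | zero => rw [map_zero, Exp.val_zero, if_neg hn]; exact K.zero_mem
    | add a b ha hb =>
      rw [map_add, Exp.val_add]
      refine Submodule.sum_mem _ fun k hk => ?_
      rw [Finset.mem_antidiagonal] at hk
      by_cases h : k.1 = 0
      · exact K.mul_mem_left _ (hb _ (by omega))
      · exact K.mul_mem_right _ (ha _ h)
    | tmul b z => exact K.mul_mem_left _ (Ideal.mem_map_of_mem _ (γ.dpow_mem hn z.2))
  refine ⟨ofExpMap K E h1 hmem (algebraMap A B '' I) rfl ?_, le_rfl, fun {n} a ha => ?_⟩
  · rintro m n hn ⟨_, hz⟩ ⟨a, ha, rfl⟩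
    have e2 : (⟨(E ⟨algebraMap A B a, hz⟩).val n, hmem n hn _⟩ : K) =
        ⟨algebraMap A B (γ.dpow n a), Ideal.mem_map_of_mem _ (γ.dpow_mem hn ha)⟩ := Subtype.ext (congrArg (fun f : Exp B => f.val n) (hE a ha))
    rw [e2, hE _ (γ.dpow_mem hn ha), hE a ha]
    show algebraMap A B (γ.dpow m (γ.dpow n a)) = _ * algebraMap A B (γ.dpow (m * n) a)
    rw [γ.dpow_comp hn ha, map_mul, map_natCast]
  · show expDpow K E n _ = _
    rw [expDpow_eq K E (Ideal.mem_map_of_mem _ ha), hE a ha]
    rfl

end flat

end Groth.Agent.DPowH7
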