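import Groth.Agent.Lib.DPowH7.Core
import Mathlib.Combinatorics.Enumerative.Bell

/-!
Divided power axioms only need to be checked on generators of the ideal.
-/

universe u

open Nat

namespace Groth.Agent.DPowH7

variable {A : Type u} [CommRing A] (I : Ideal A) (S : Set A) (hS : Ideal.span S = I) (d : ℕ → A → A)
  (h_zero : ∀ x ∈ I, d 0 x = 1) (h_one : ∀ x ∈ I, d 1 x = x)
  (h_mem : ∀ (n : ℕ) (x : A), n ≠ 0 → x ∈ I → d n x ∈ I)
  (h_add : ∀ (n : ℕ) (x y : A), x ∈ I → y ∈ I →
    d n (x + y) = (Finset.antidiagonal n).sum fun k => d k.1 x * d k.2 y)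
  (h_mul : ∀ (n : ℕ) (a x : A), x ∈ I → d n (a * x) = a ^ n * d n x)

include h_one in
theorem dp_gen {x y : A} (hx : x ∈ I) (hy0 : d 0 y = 1) (hd : ∀ j n, n ≠ 0 → d j (d n x) = Nat.uniformBell j n * d (j * n) x)
    (hm : ∀ (n : ℕ) (x : A), n ≠ 0 → x ∈ I → d n x ∈ I) (N k : ℕ) (hk : k ≠ 0) :
    DP N d x y I (gen d x y (k, 0)) := by
  have h2 : (gen d x y (k, 0)).2 = d k x := by simp [gen, hy0]
  refine ⟨h2 ▸ hm k x hk hx, fun j _ => ?_⟩
  have key : ((j ! : ℚ)⁻¹ • (gen d x y (k, 0)).1 ^ j, d j (gen d x y (k, 0)).2) =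
      Nat.uniformBell j k • gen d x y (j * k, 0) := by
    refine Prod.ext ?_ ?_
    · simp only [gen, Prod.smul_fst, pow_zero, mul_one, Nat.factorial_zero, Nat.cast_one, smul_pow, ← pow_mul, smul_smul]
      rw [← Nat.cast_smul_eq_nsmul ℚ, smul_smul, mul_comm k j]
      congr 1
      have h := Nat.uniformBell_mul_eq j hk
      have hq : (Nat.uniformBell j k : ℚ) * (k ! : ℚ) ^ j * (j ! : ℚ) = ((j * k)! : ℚ) := by exact_mod_cast h
      have n1 : ((j * k)! : ℚ) ≠ 0 := by exact_mod_cast Nat.factorial_ne_zero _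
      have n2 : (k ! : ℚ) ≠ 0 := by exact_mod_cast Nat.factorial_ne_zero _
      rw [inv_pow]
      field_simp
      linear_combination -hq
    · rw [h2, hd j k hk, Prod.smul_snd, nsmul_eq_mul]
      simp [gen, hy0]
  rw [key]
  exact mem_nsmul _ (mem_gen _)

include h_one in
theorem dp_gen' {x y : A} (hx0 : d 0 x = 1) (hy : y ∈ I) (hd : ∀ j n, n ≠ 0 → d j (d n y) = Nat.uniformBell j n * d (j * n) y)
    (hm : ∀ (n : ℕ) (x : A), n ≠ 0 → x ∈ I → d n x ∈ I) (N k : ℕ) (hk : k ≠ 0) :
    DP N d x y I (gen d x y (0, k)) := by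
  have h2 : (gen d x y (0, k)).2 = d k y := by simp [gen, hx0]
  refine ⟨h2 ▸ hm k y hk hy, fun j _ => ?_⟩
  have key : ((j ! : ℚ)⁻¹ • (gen d x y (0, k)).1 ^ j, d j (gen d x y (0, k)).2) =
      Nat.uniformBell j k • gen d x y (0, j * k) := by
    refine Prod.ext ?_ ?_
    · simp only [gen, Prod.smul_fst, pow_zero, one_mul, Nat.factorial_zero, Nat.cast_one, smul_pow, ← pow_mul, smul_smul]
      rw [← Nat.cast_smul_eq_nsmul ℚ, smul_smul, mul_comm k j]
      congr 1
      have h := Nat.uniformBell_mul_eq j hk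
      have hq : (Nat.uniformBell j k : ℚ) * (k ! : ℚ) ^ j * (j ! : ℚ) = ((j * k)! : ℚ) := by exact_mod_cast h
      have n1 : ((j * k)! : ℚ) ≠ 0 := by exact_mod_cast Nat.factorial_ne_zero _
      have n2 : (k ! : ℚ) ≠ 0 := by exact_mod_cast Nat.factorial_ne_zero _
      rw [inv_pow]
      field_simp
      linear_combination -hq
    · rw [h2, hd j k hk, Prod.smul_snd, nsmul_eq_mul]
      simp [gen, hx0]
  rw [key]
  exact mem_nsmul _ (mem_gen _)

include hS h_zero h_one h_mem h_add h_mul in
/-- The two remaining axioms hold on the whole ideal once they hold on generators. -/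
theorem axioms_of_gens (h_md : ∀ (m n : ℕ) (x : A), x ∈ S → d m x * d n x = (m + n).choose m * d (m + n) x)
    (h_comp : ∀ (m n : ℕ) (x : A), n ≠ 0 → x ∈ S → d m (d n x) = Nat.uniformBell m n * d (m * n) x)
    (x : A) (hx : x ∈ I) :
    Mult d x ∧ ∀ m n, n ≠ 0 → d m (d n x) = Nat.uniformBell m n * d (m * n) x := by
  rw [← hS] at hx
  induction hx using Submodule.span_induction with
  | mem z hz => exact ⟨⟨h_zero z (hS ▸ Ideal.subset_span hz), fun m n => h_md m n z hz⟩, fun m n hn => h_comp m n z hn hz⟩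
  | zero =>
    have h0 : ∀ n : ℕ, n ≠ 0 → d n 0 = 0 := fun n hn => by
      have := h_mul n 0 0 I.zero_mem
      rwa [zero_mul, zero_pow hn, zero_mul] at this
    refine ⟨⟨h_zero 0 I.zero_mem, fun m n => ?_⟩, fun m n hn => ?_⟩
    · by_cases hm : m = 0
      · subst hm; rw [h_zero 0 I.zero_mem, one_mul, zero_add, Nat.choose_zero_right, Nat.cast_one, one_mul]
      · rw [h0 m hm, zero_mul, h0 (m + n) (by omega), mul_zero]
    · rw [h0 n hn]
      by_cases hm : m = 0
      · subst hm
        rw [zero_mul, h_zero 0 I.zero_mem, Nat.uniformBell_zero_left, Nat.cast_one, one_mul]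
      · rw [h0 m hm, h0 (m * n) (mul_ne_zero hm hn), mul_zero]
  | smul a z hz ih =>
    have hzI : z ∈ I := hS ▸ hz
    rw [smul_eq_mul]
    refine ⟨⟨h_zero _ (I.mul_mem_left a hzI), fun m n => ?_⟩, fun m n hn => ?_⟩
    · rw [h_mul m a z hzI, h_mul n a z hzI, h_mul _ a z hzI, mul_mul_mul_comm, ih.1.mul m n, ← pow_add]
      ring
    · rw [h_mul n a z hzI, h_mul m (a ^ n) _ (h_mem n z hn hzI), ih.2 m n hn, h_mul _ a z hzI, ← pow_mul,
        mul_comm n m]
      ring
  | add u v hu hv ihu ihv =>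
    have huI : u ∈ I := hS ▸ hu
    have hvI : v ∈ I := hS ▸ hv
    have hadd : ∀ (N : ℕ), ∀ j ≤ N, ∀ a b : A, a ∈ I → b ∈ I →
        d j (a + b) = (Finset.antidiagonal j).sum fun k => d k.1 a * d k.2 b := fun N j _ a b => h_add j a b
    have hmul : ∀ (N : ℕ), ∀ j ≤ N, ∀ a b : A, b ∈ I → d j (a * b) = a ^ j * d j b := fun N j _ => h_mul j
    let q : MvPolynomial (Fin 2) ℚ × A := gen d u v (1, 0) + gen d u v (0, 1)
    have hq2 : q.2 = u + v := by simp [q, gen, h_zero u huI, h_zero v hvI, h_one u huI, h_one v hvI]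
    have hq : ∀ N, DP N d u v I q := fun N =>
      DP.add ihu.1 ihv.1 (hadd N) (dp_gen I d h_one huI ihv.1.zero ihu.2 h_mem N 1 one_ne_zero)
        (dp_gen' I d h_one ihu.1.zero hvI ihv.2 h_mem N 1 one_ne_zero)
    have hpow : ∀ n, Mem d u v ((n ! : ℚ)⁻¹ • q.1 ^ n, d n (u + v)) := fun n => hq2 ▸ (hq n).2 n le_rfl
    refine ⟨⟨h_zero _ (I.add_mem huI hvI), fun m n => ?_⟩, fun m n hn => ?_⟩
    · refine snd_eq (mem_mul ihu.1 ihv.1 (hpow m) (hpow n)) ?_
      convert mem_nsmul ((m + n).choose m) (hpow (m + n)) using 1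
      refine Prod.ext ?_ ?_
      · simp only [Prod.fst_mul, Prod.smul_fst, smul_mul_smul_comm, ← pow_add]
        rw [← Nat.cast_smul_eq_nsmul ℚ, smul_smul]
        congr 1
        have h := choose_cast_mul m n
        have n1 : ((m + n)! : ℚ) ≠ 0 := by exact_mod_cast Nat.factorial_ne_zero _
        field_simp
        linear_combination -h
      · simp [nsmul_eq_mul]
    · let q' : MvPolynomial (Fin 2) ℚ × A := ((n ! : ℚ)⁻¹ • q.1 ^ n, d n (u + v))
      have hterm : ∀ k ∈ Finset.antidiagonal n, DP m d u v I (gen d u v k) := fun k hk => by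
        rw [Finset.mem_antidiagonal] at hk
        have e : gen d u v k = gen d u v (k.1, 0) * gen d u v (0, k.2) := by
          rw [gen_mul ihu.1 ihv.1]; simp
        by_cases hk2 : k.2 = 0
        · obtain ⟨a, b⟩ := k
          obtain rfl : b = 0 := hk2
          exact dp_gen I d h_one huI ihv.1.zero ihu.2 h_mem m a (by simp at hk; omega)
        · rw [e]
          exact DP.mul ihu.1 ihv.1 (hmul m) (mem_gen _) (dp_gen' I d h_one ihu.1.zero hvI ihv.2 h_mem m k.2 hk2)
      have hsum : DP m d u v I q' := by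
        have e : q' = (Finset.antidiagonal n).sum (gen d u v) := by
          refine Prod.ext ?_ ?_
          · simp only [q', q, gen, Prod.fst_add, Prod.fst_sum, Nat.factorial_zero, Nat.factorial_one, Nat.cast_one,
              one_mul, mul_one, inv_one, one_smul, pow_one, pow_zero]
            rw [(Commute.all _ _).add_pow', Finset.smul_sum]
            refine Finset.sum_congr rfl fun k hk => ?_
            rw [Finset.mem_antidiagonal] at hk
            subst hk
            rw [← Nat.cast_smul_eq_nsmul ℚ, smul_smul]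
            congr 1
            have h1 := choose_cast_mul k.1 k.2
            have n0 : ((k.1 + k.2)! : ℚ) ≠ 0 := by exact_mod_cast Nat.factorial_ne_zero _
            field_simp
            linear_combination h1
          · simp only [q', gen, Prod.snd_sum]
            exact h_add n u v huI hvI
        rw [e]
        have hne : ∀ (s : Finset (ℕ × ℕ)), s.Nonempty → (∀ k ∈ s, DP m d u v I (gen d u v k)) →
            DP m d u v I (s.sum (gen d u v)) := by
          intro s hs
          induction hs using Finset.Nonempty.cons_induction with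
          | singleton a => intro h; rw [Finset.sum_singleton]; exact h a (Finset.mem_singleton_self a)
          | cons a t ha ht ih =>
            intro h
            rw [Finset.sum_cons]
            exact DP.add ihu.1 ihv.1 (hadd m) (h a (Finset.mem_cons_self a t))
              (ih fun k hk => h k (Finset.mem_cons.mpr (Or.inr hk)))
        exact hne _ ⟨(0, n), by simp⟩ hterm
      refine snd_eq (hsum.2 m le_rfl) ?_
      convert mem_nsmul (Nat.uniformBell m n) (hpow (m * n)) using 1
      refine Prod.ext ?_ ?_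
      · simp only [q', Prod.smul_fst, smul_pow, ← pow_mul, smul_smul]
        rw [← Nat.cast_smul_eq_nsmul ℚ, smul_smul, mul_comm n m]
        congr 1
        have h := Nat.uniformBell_mul_eq m hn
        have hq : (Nat.uniformBell m n : ℚ) * (n ! : ℚ) ^ m * (m ! : ℚ) = ((m * n)! : ℚ) := by exact_mod_cast h
        have n1 : ((m * n)! : ℚ) ≠ 0 := by exact_mod_cast Nat.factorial_ne_zero _
        have n2 : (n ! : ℚ) ≠ 0 := by exact_mod_cast Nat.factorial_ne_zero _
        rw [inv_pow]
        field_simp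
        linear_combination -hq
      · simp [nsmul_eq_mul]

/-- A divided power structure from data whose last two axioms hold on generators. -/
def ofGens (h_null : ∀ (n : ℕ) (x : A), x ∉ I → d n x = 0)
    (h_md : ∀ (m n : ℕ) (x : A), x ∈ S → d m x * d n x = (m + n).choose m * d (m + n) x)
    (h_comp : ∀ (m n : ℕ) (x : A), n ≠ 0 → x ∈ S → d m (d n x) = Nat.uniformBell m n * d (m * n) x) :
    DividedPowers I where
  dpow := d
  dpow_null hx := h_null _ _ hx
  dpow_zero hx := h_zero _ hx
  dpow_one hx := h_one _ hx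
  dpow_mem hn hx := h_mem _ _ hn hx
  dpow_add hx hy := h_add _ _ _ hx hy
  dpow_mul hx := h_mul _ _ _ hx
  mul_dpow hx := (axioms_of_gens I S hS d h_zero h_one h_mem h_add h_mul h_md h_comp _ hx).1.mul _ _
  dpow_comp hn hx := (axioms_of_gens I S hS d h_zero h_one h_mem h_add h_mul h_md h_comp _ hx).2 _ _ hn

end Groth.Agent.DPowH7
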