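import Groth.Agent.Lib.DPowH7.OfGens
import Groth.Agent.Lib.DPowH7.Cases
import Mathlib.Algebra.GroupWithZero.Invertible
import Mathlib.Algebra.GroupWithZero.Units.Basic
import Mathlib.NumberTheory.Padics.PadicVal.Basic
import Mathlib.Data.Nat.Prime.Factorial

/-!
Divided powers from a `p`-th divided power when integers prime to `p` are invertible.
-/

universe u

open Nat

namespace Groth.Agent.DPowH7

/-- `n! / (m! * p! ^ m)` with `m = n / p`. -/
def eNum (p n : ℕ) : ℕ := n.descFactorial (n % p) * Nat.uniformBell (n / p) p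

theorem eNum_spec {p : ℕ} (hp : p.Prime) (n : ℕ) : eNum p n * (p ! ^ (n / p) * (n / p)!) = n ! := by
  rw [eNum, mul_assoc, ← mul_assoc (Nat.uniformBell _ _), Nat.uniformBell_mul_eq _ hp.ne_zero]
  have h := Nat.factorial_mul_descFactorial (Nat.mod_le n p)
  have h2 : n - n % p = n / p * p := by have := Nat.div_add_mod n p; rw [mul_comm]; omega
  rw [h2] at h
  rw [← h, mul_comm]

theorem eNum_ne_zero {p : ℕ} (hp : p.Prime) (n : ℕ) : eNum p n ≠ 0 := fun h => by
  have := eNum_spec hp n
  rw [h, zero_mul] at this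
  exact Nat.factorial_ne_zero n this.symm

theorem not_dvd_eNum {p : ℕ} (hp : p.Prime) (n : ℕ) : ¬ p ∣ eNum p n := by
  intro hdvd
  haveI := Fact.mk hp
  have hval := congrArg (padicValNat p) (eNum_spec hp n)
  have h0 : p ! ^ (n / p) * (n / p)! ≠ 0 :=
    mul_ne_zero (pow_ne_zero _ (Nat.factorial_ne_zero _)) (Nat.factorial_ne_zero _)
  have hp1 : padicValNat p p ! = 1 := by
    have := padicValNat_factorial_mul (p := p) 1
    simpa using this
  rw [padicValNat.mul (eNum_ne_zero hp n) h0, padicValNat.mul (pow_ne_zero _ (Nat.factorial_ne_zero _)) (Nat.factorial_ne_zero _),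
    padicValNat.pow, hp1, ← padicValNat_mul_div_factorial (p := p) n, padicValNat_factorial_mul] at hval
  have := one_le_padicValNat_of_dvd (eNum_ne_zero hp n) hdvd
  omega

variable {A : Type u} [CommRing A] (p : ℕ) (I : Ideal A) (d : A → A)

/-- The divided powers generated by the `p`-th one. -/
noncomputable def gPow : ℕ → A → A
  | n => fun x =>
    if h : n = 0 ∨ p < 2 then 1
    else Ring.inverse (eNum p n : A) * x ^ (n % p) * gPow (n / p) (d x)
  termination_by n => n
  decreasing_by exact Nat.div_lt_self (by omega) (by omega)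

variable {p I d} (hp : p.Prime) (hA : ∀ n : ℕ, ¬ p ∣ n → IsUnit (n : A))
  (hdI : ∀ x ∈ I, d x ∈ I) (h1 : ∀ x ∈ I, (p.factorial : A) * d x = x ^ p)
  (h2 : ∀ (a x : A), x ∈ I → d (a * x) = a ^ p * d x)

theorem gPow_zero (x : A) : gPow p d 0 x = 1 := by
  rw [gPow]; simp

include hp in
theorem gPow_eq {n : ℕ} (hn : n ≠ 0) (x : A) :
    gPow p d n x = Ring.inverse (eNum p n : A) * x ^ (n % p) * gPow p d (n / p) (d x) := by
  rw [gPow]; simp only [dif_neg (show ¬(n = 0 ∨ p < 2) by have := hp.two_le; omega)]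

include hp hA in
theorem eNum_mul_gPow (n : ℕ) (x : A) :
    (eNum p n : A) * gPow p d n x = x ^ (n % p) * gPow p d (n / p) (d x) := by
  rcases eq_or_ne n 0 with rfl | hn
  · simp [eNum, gPow_zero, Nat.uniformBell_zero_left]
  · rw [gPow_eq hp hn, ← mul_assoc, ← mul_assoc, Ring.mul_inverse_cancel _ (hA _ (not_dvd_eNum hp n)), one_mul]

include hp in
theorem gPow_one (x : A) : gPow p d 1 x = x := by
  rw [gPow_eq hp one_ne_zero, Nat.mod_eq_of_lt hp.one_lt, Nat.div_eq_of_lt hp.one_lt, gPow_zero]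
  have : eNum p 1 = 1 := by simp [eNum, Nat.mod_eq_of_lt hp.one_lt, Nat.div_eq_of_lt hp.one_lt, Nat.uniformBell_zero_left]
  rw [this]; simp

include hp hdI h2 in
theorem gPow_mul : ∀ (n : ℕ) (a x : A), x ∈ I → gPow p d n (a * x) = a ^ n * gPow p d n x := by
  intro n
  induction n using Nat.strong_induction_on with
  | _ n ih =>
    intro a x hx
    rcases eq_or_ne n 0 with rfl | hn
    · rw [gPow_zero, gPow_zero, pow_zero, one_mul]
    · rw [gPow_eq hp hn, gPow_eq hp hn, h2 a x hx, ih (n / p) (Nat.div_lt_self (by omega) hp.one_lt) _ _ (hdI x hx),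
        mul_pow, ← pow_mul]
      conv_rhs => rw [← Nat.mod_add_div n p, pow_add]
      simp only [Nat.mod_add_div]
      ring

include hp hdI in
theorem gPow_mem : ∀ (n : ℕ) (x : A), n ≠ 0 → x ∈ I → gPow p d n x ∈ I := by
  intro n
  induction n using Nat.strong_induction_on with
  | _ n ih =>
    intro x hn hx
    rw [gPow_eq hp hn]
    rcases eq_or_ne (n % p) 0 with h | h
    · refine I.mul_mem_left _ (ih _ (Nat.div_lt_self (by omega) hp.one_lt) _ ?_ (hdI x hx))
      intro h0
      have := Nat.mod_add_div n p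
      rw [h, h0, mul_zero] at this
      omega
    · exact I.mul_mem_right _ (I.mul_mem_left _ (I.pow_mem_of_mem hx _ (by omega)))

include hp hA hdI h1 in
theorem gPow_prod : ∀ (N i j : ℕ), i + j = N → ∀ x ∈ I,
    gPow p d i x * gPow p d j x = (N.choose i : A) * gPow p d N x := by
  intro N
  induction N using Nat.strong_induction_on with
  | _ N ih =>
    intro i j hij x hx
    rcases eq_or_ne i 0 with rfl | hi
    · rw [zero_add] at hij; subst hij; simp [gPow_zero]
    rcases eq_or_ne j 0 with rfl | hj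
    · rw [add_zero] at hij; subst hij; simp [gPow_zero]
    subst hij
    have hp0 := hp.pos
    have dv := Nat.mod_add_div i p
    have dw := Nat.mod_add_div j p
    have dn := Nat.mod_add_div (i + j) p
    have hu : IsUnit ((eNum p i * eNum p j : ℕ) : A) := by
      rw [Nat.cast_mul]; exact (hA _ (not_dvd_eNum hp i)).mul (hA _ (not_dvd_eNum hp j))
    refine hu.mul_left_cancel ?_
    have hMlt : (i + j) / p < i + j := Nat.div_lt_self (by omega) hp.one_lt
    have key : ∀ (c : ℕ), c * ((i / p)! * (j / p)!) * p ! ^ (i / p + j / p) = ((i + j) / p)! * p ! ^ ((i + j) / p) →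
        c * eNum p (i + j) = eNum p i * eNum p j * (i + j).choose i := by
      intro c hc
      rw [pow_add] at hc
      have hM : (((i + j) / p)! * p ! ^ ((i + j) / p)) ≠ 0 := by simp [Nat.factorial_ne_zero]
      apply Nat.eq_of_mul_eq_mul_right (Nat.pos_of_ne_zero hM)
      have e1 := eNum_spec hp i
      have e2 := eNum_spec hp j
      have e3 := eNum_spec hp (i + j)
      have e4 := Nat.add_choose_mul_factorial_mul_factorial i j
      rw [← Nat.choose_symm_add] at e4
      have hcl : c * eNum p (i + j) * (((i + j) / p)! * p ! ^ ((i + j) / p)) = c * (i + j)! := by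
        rw [← e3]; ring
      rw [hcl, ← e4, ← e1, ← e2]
      linear_combination (eNum p i * eNum p j * (i + j).choose i) * hc
    have hmain : ∀ (M : ℕ), (i / p) + (j / p) = M → M < i + j → gPow p d (i / p) (d x) * gPow p d (j / p) (d x) = (M.choose (i / p) : A) * gPow p d M (d x) :=
      fun M hM hlt => ih M hlt _ _ hM _ (hdI x hx)
    have hL : ((eNum p i * eNum p j : ℕ) : A) * (gPow p d i x * gPow p d j x) =
        x ^ (i % p + j % p) * (gPow p d (i / p) (d x) * gPow p d (j / p) (d x)) := by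
      rw [Nat.cast_mul, mul_mul_mul_comm, eNum_mul_gPow hp hA, eNum_mul_gPow hp hA, pow_add]
      ring
    rw [hL]
    have hi' : i % p < p := Nat.mod_lt _ hp0
    have hj' : j % p < p := Nat.mod_lt _ hp0
    by_cases hlt : i % p + j % p < p
    · have hdiv : (i + j) / p = i / p + j / p := Nat.add_div_eq_of_add_mod_lt hlt
      have hmod : (i + j) % p = i % p + j % p := by rw [Nat.add_mod, Nat.mod_eq_of_lt hlt]
      rw [hmain ((i + j) / p) hdiv.symm hMlt, ← hmod]
      have e := key (((i + j) / p).choose (i / p)) (by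
        have e5 := Nat.add_choose_mul_factorial_mul_factorial (i / p) (j / p)
        rw [← Nat.choose_symm_add] at e5
        rw [hdiv, ← e5]
        ring)
      calc x ^ ((i + j) % p) * ((((i + j) / p).choose (i / p) : A) * gPow p d ((i + j) / p) (d x))
          = ((((i + j) / p).choose (i / p) : ℕ) : A) * ((eNum p (i + j) : A) * gPow p d (i + j) x) := by
            rw [eNum_mul_gPow hp hA]; ring
        _ = _ := by rw [← mul_assoc, ← Nat.cast_mul, e]; push_cast; ring
    · have hge : p ≤ i % p + j % p := by omega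
      have hdiv : (i + j) / p = i / p + j / p + 1 := Nat.add_div_eq_of_le_mod_add_mod hge hp0
      have hmod : (i + j) % p + p = i % p + j % p := by
        rw [hdiv] at dn
        rw [Nat.mul_add, Nat.mul_add, mul_one] at dn
        omega
      rw [hmain (i / p + j / p) rfl (by omega), ← hmod, pow_add, ← h1 x hx]
      have hstep : d x * gPow p d (i / p + j / p) (d x) = ((i / p + j / p + 1 : ℕ) : A) * gPow p d ((i + j) / p) (d x) := by
        have h := ih ((i + j) / p) hMlt 1 (i / p + j / p) (by omega) _ (hdI x hx)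
        rw [gPow_one hp, Nat.choose_one_right] at h
        rw [h, hdiv]
      have e := key ((i / p + j / p).choose (i / p) * (p ! * (i / p + j / p + 1))) (by
        have e5 := Nat.add_choose_mul_factorial_mul_factorial (i / p) (j / p)
        rw [← Nat.choose_symm_add] at e5
        rw [hdiv, Nat.factorial_succ, ← e5, pow_succ]
        ring)
      calc x ^ ((i + j) % p) * ((p ! : A) * d x) * (((i / p + j / p).choose (i / p) : A) * gPow p d (i / p + j / p) (d x))
          = ((i / p + j / p).choose (i / p) : A) * (p ! : A) * x ^ ((i + j) % p) * (d x * gPow p d (i / p + j / p) (d x)) := by ring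
        _ = (((i / p + j / p).choose (i / p) * (p ! * (i / p + j / p + 1)) : ℕ) : A) * ((eNum p (i + j) : A) * gPow p d (i + j) x) := by
            rw [eNum_mul_gPow hp hA, hstep]; push_cast; ring
        _ = _ := by rw [← mul_assoc, ← Nat.cast_mul, e]; push_cast; ring

include hp hA hdI h1 in
theorem gPow_mult {x : A} (hx : x ∈ I) : Mult (gPow p d) x :=
  ⟨gPow_zero x, fun m n => gPow_prod hp hA hdI h1 (m + n) m n rfl x hx⟩

theorem smul_pair_eq (j k : ℕ) (hk : k ≠ 0) :
    (j ! : ℚ)⁻¹ * ((k ! : ℚ)⁻¹) ^ j = (Nat.uniformBell j k : ℚ) * ((j * k)! : ℚ)⁻¹ := by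
  have h := Nat.uniformBell_mul_eq j hk
  have hq : (Nat.uniformBell j k : ℚ) * (k ! : ℚ) ^ j * (j ! : ℚ) = ((j * k)! : ℚ) := by exact_mod_cast h
  have n1 : ((j * k)! : ℚ) ≠ 0 := by exact_mod_cast Nat.factorial_ne_zero _
  have n2 : (k ! : ℚ) ≠ 0 := by exact_mod_cast Nat.factorial_ne_zero _
  have n3 : (j ! : ℚ) ≠ 0 := by exact_mod_cast Nat.factorial_ne_zero _
  rw [inv_pow]
  field_simp
  linear_combination -hq

include hp hA in
/-- The pair of the `p`-th divided power of `X` and `d x`. -/
theorem mem_dx {x y : A} (hy0 : gPow p d 0 y = 1) (j : ℕ) :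
    Mem (gPow p d) x y ((j ! : ℚ)⁻¹ • ((p ! : ℚ)⁻¹ • MvPolynomial.X 0 ^ p) ^ j, gPow p d j (d x)) := by
  have hdiv : p * j / p = j := Nat.mul_div_cancel_left j hp.pos
  have he : eNum p (p * j) = Nat.uniformBell j p := by simp [eNum, hdiv, Nat.mul_mod_right]
  have key : ((j ! : ℚ)⁻¹ • ((p ! : ℚ)⁻¹ • MvPolynomial.X 0 ^ p) ^ j, gPow p d j (d x)) =
      Nat.uniformBell j p • gen (gPow p d) x y (p * j, 0) := by
    refine Prod.ext ?_ ?_
    · simp only [gen, Prod.smul_fst, pow_zero, mul_one, Nat.factorial_zero, Nat.cast_one, smul_pow, ← pow_mul, smul_smul]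
      rw [← Nat.cast_smul_eq_nsmul ℚ, smul_smul, smul_pair_eq j p hp.ne_zero, mul_comm j p]
    · have h := eNum_mul_gPow hp hA (d := d) (p * j) x
      rw [he, hdiv, Nat.mul_mod_right, pow_zero, one_mul] at h
      simp [gen, hy0, ← h, nsmul_eq_mul]
  rw [key]
  exact mem_nsmul _ (mem_gen _)

include hp hA in
theorem mem_dy {x y : A} (hx0 : gPow p d 0 x = 1) (j : ℕ) :
    Mem (gPow p d) x y ((j ! : ℚ)⁻¹ • ((p ! : ℚ)⁻¹ • MvPolynomial.X 1 ^ p) ^ j, gPow p d j (d y)) := by
  have hdiv : p * j / p = j := Nat.mul_div_cancel_left j hp.pos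
  have he : eNum p (p * j) = Nat.uniformBell j p := by simp [eNum, hdiv, Nat.mul_mod_right]
  have key : ((j ! : ℚ)⁻¹ • ((p ! : ℚ)⁻¹ • MvPolynomial.X 1 ^ p) ^ j, gPow p d j (d y)) =
      Nat.uniformBell j p • gen (gPow p d) x y (0, p * j) := by
    refine Prod.ext ?_ ?_
    · simp only [gen, Prod.smul_fst, pow_zero, one_mul, Nat.factorial_zero, Nat.cast_one, smul_pow, ← pow_mul, smul_smul]
      rw [← Nat.cast_smul_eq_nsmul ℚ, smul_smul, smul_pair_eq j p hp.ne_zero, mul_comm j p]
    · have h := eNum_mul_gPow hp hA (d := d) (p * j) y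
      rw [he, hdiv, Nat.mul_mod_right, pow_zero, one_mul] at h
      simp [gen, hx0, ← h, nsmul_eq_mul]
  rw [key]
  exact mem_nsmul _ (mem_gen _)

variable (h3 : ∀ x ∈ I, ∀ y ∈ I, d (x + y) = d x + d y +
      ((Finset.antidiagonal p).filter fun k => 0 < k.1 ∧ 0 < k.2).sum
        fun k => Ring.inverse ((k.1.factorial * k.2.factorial : ℕ) : A) * x ^ k.1 * y ^ k.2)

include hp hA hdI h1 h2 h3 in
theorem gPow_add : ∀ (n : ℕ) (x y : A), x ∈ I → y ∈ I →
    gPow p d n (x + y) = (Finset.antidiagonal n).sum fun k => gPow p d k.1 x * gPow p d k.2 y := by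
  intro n
  induction n using Nat.strong_induction_on with
  | _ n ih =>
    intro x y hx hy
    rcases eq_or_ne n 0 with rfl | hn
    · simp [gPow_zero]
    have hmlt : n / p < n := Nat.div_lt_self (by omega) hp.one_lt
    have hX := gPow_mult hp hA hdI h1 hx
    have hY := gPow_mult hp hA hdI h1 hy
    have hadd : ∀ j ≤ n / p, ∀ a b : A, a ∈ I → b ∈ I →
        gPow p d j (a + b) = (Finset.antidiagonal j).sum fun k => gPow p d k.1 a * gPow p d k.2 b :=
      fun j hj a b => ih j (by omega) a b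
    have hmul : ∀ j ≤ n / p, ∀ a b : A, b ∈ I → gPow p d j (a * b) = a ^ j * gPow p d j b :=
      fun j _ => gPow_mul hp hdI h2 j
    let X : MvPolynomial (Fin 2) ℚ × A := (MvPolynomial.X 0, x)
    let Y : MvPolynomial (Fin 2) ℚ × A := (MvPolynomial.X 1, y)
    have hgX : gen (gPow p d) x y (1, 0) = X := by simp [gen, X, gPow_one hp, gPow_zero]
    have hgY : gen (gPow p d) x y (0, 1) = Y := by simp [gen, Y, gPow_one hp, gPow_zero]
    have hmX : Mem (gPow p d) x y X := hgX ▸ mem_gen _
    have hmY : Mem (gPow p d) x y Y := hgY ▸ mem_gen _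
    have hDX : DP (n / p) (gPow p d) x y I X := ⟨hx, fun j _ => by
      have e : ((j ! : ℚ)⁻¹ • X.1 ^ j, gPow p d j X.2) = gen (gPow p d) x y (j, 0) := by simp [gen, X, gPow_zero]
      rw [e]; exact mem_gen _⟩
    let c : ℕ × ℕ → MvPolynomial (Fin 2) ℚ × A := fun k =>
      ((((k.1 + 1)! : ℚ) * ((k.2)! : ℚ))⁻¹ • (MvPolynomial.X 0 ^ k.1 * MvPolynomial.X 1 ^ k.2),
        Ring.inverse (((k.1 + 1)! * (k.2)! : ℕ) : A) * (x ^ k.1 * y ^ k.2))
    have hndvd : ∀ a, a < p → ¬ p ∣ a ! := fun a ha h => by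
      have := (Nat.Prime.dvd_factorial hp).mp h; omega
    have hc : ∀ k : ℕ × ℕ, k.1 + 1 < p → k.2 < p → Mem (gPow p d) x y (c k) := fun k hk1 hk2 => by
      have hu : IsUnit (((k.1 + 1)! * (k.2)! : ℕ) : A) := by
        rw [Nat.cast_mul]; exact (hA _ (hndvd _ hk1)).mul (hA _ (hndvd _ hk2))
      refine mem_div (mul_ne_zero (Nat.factorial_ne_zero _) (Nat.factorial_ne_zero _)) hu ?_
      have e : ((k.1 + 1)! * (k.2)!) • c k = X ^ k.1 * Y ^ k.2 := by
        refine Prod.ext ?_ ?_
        · simp only [c, X, Y, Prod.smul_fst, Prod.fst_mul, Prod.pow_fst]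
          rw [← Nat.cast_smul_eq_nsmul ℚ, smul_smul]
          have : (((k.1 + 1)! * (k.2)! : ℕ) : ℚ) * (((k.1 + 1)! : ℚ) * ((k.2)! : ℚ))⁻¹ = 1 := by
            rw [Nat.cast_mul]; exact mul_inv_cancel₀ (by simp [Nat.factorial_ne_zero])
          rw [this, one_smul]
        · rw [Prod.smul_snd]
          simp only [c, X, Y, Prod.snd_mul, Prod.pow_snd, nsmul_eq_mul]
          rw [← mul_assoc, Ring.mul_inverse_cancel _ hu, one_mul]
      rw [e]
      exact mem_mul hX hY (mem_pow hX hY hmX _) (mem_pow hX hY hmY _)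
    let qx : MvPolynomial (Fin 2) ℚ × A := ((p ! : ℚ)⁻¹ • MvPolynomial.X 0 ^ p, d x)
    let qy : MvPolynomial (Fin 2) ℚ × A := ((p ! : ℚ)⁻¹ • MvPolynomial.X 1 ^ p, d y)
    let F := (Finset.antidiagonal p).filter fun k => 0 < k.1 ∧ 0 < k.2
    let w : ℕ × ℕ → MvPolynomial (Fin 2) ℚ × A := fun k => c (k.1 - 1, k.2) * X
    have hsum : ∀ s ⊆ F, DP (n / p) (gPow p d) x y I (qx + qy + ∑ k ∈ s, w k) := by
      intro s
      induction s using Finset.induction with
      | empty =>
        intro _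
        rw [Finset.sum_empty, add_zero]
        exact DP.add hX hY hadd ⟨hdI x hx, fun j _ => mem_dx hp hA (gPow_zero y) j⟩
          ⟨hdI y hy, fun j _ => mem_dy hp hA (gPow_zero x) j⟩
      | insert a t ha iht =>
        intro hs
        rw [Finset.sum_insert ha, add_left_comm]
        have haF := hs (Finset.mem_insert_self a t)
        simp only [F, Finset.mem_filter, Finset.mem_antidiagonal] at haF
        exact DP.add hX hY hadd (DP.mul hX hY hmul (hc _ (by simp; omega) (by simp; omega)) hDX)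
          (iht fun k hk => hs (Finset.mem_insert_of_mem hk))
    have hq := (hsum F subset_rfl).2 (n / p) le_rfl
    let Z : MvPolynomial (Fin 2) ℚ := MvPolynomial.X 0 + MvPolynomial.X 1
    have hw : ∀ k ∈ F, w k = ((((k.1)! : ℚ) * ((k.2)! : ℚ))⁻¹ • (MvPolynomial.X 0 ^ k.1 * MvPolynomial.X 1 ^ k.2),
        Ring.inverse ((k.1.factorial * k.2.factorial : ℕ) : A) * x ^ k.1 * y ^ k.2) := fun k hk => by
      obtain ⟨a, b⟩ := k
      simp only [F, Finset.mem_filter, Finset.mem_antidiagonal] at hk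
      obtain ⟨a, rfl⟩ : ∃ a', a = a' + 1 := ⟨a - 1, by omega⟩
      refine Prod.ext ?_ ?_
      · simp only [w, c, X, Prod.fst_mul, Nat.add_sub_cancel, smul_mul_assoc]
        congr 1
        ring
      · simp only [w, c, X, Prod.snd_mul, Nat.add_sub_cancel]
        ring
    have e2 : (qx + qy + ∑ k ∈ F, w k).2 = d (x + y) := by
      rw [h3 x hx y hy, Prod.snd_add, Prod.snd_add, Prod.snd_sum]
      exact congrArg _ (Finset.sum_congr rfl fun k hk => by rw [hw k hk])
    have e1 : (qx + qy + ∑ k ∈ F, w k).1 = (p ! : ℚ)⁻¹ • Z ^ p := by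
      have hall : (p ! : ℚ)⁻¹ • Z ^ p = ∑ k ∈ Finset.antidiagonal p,
          (((k.1)! : ℚ) * ((k.2)! : ℚ))⁻¹ • (MvPolynomial.X (R := ℚ) (0 : Fin 2) ^ k.1 * MvPolynomial.X 1 ^ k.2) := by
        rw [(Commute.all _ _).add_pow', Finset.smul_sum]
        refine Finset.sum_congr rfl fun k hk => ?_
        rw [Finset.mem_antidiagonal] at hk
        subst hk
        rw [← Nat.cast_smul_eq_nsmul ℚ, smul_smul]
        congr 1
        have h1 := choose_cast_mul k.1 k.2
        have n0 : ((k.1 + k.2)! : ℚ) ≠ 0 := by exact_mod_cast Nat.factorial_ne_zero _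
        field_simp
        linear_combination h1
      have hsplit : Finset.antidiagonal p = insert (p, 0) (insert (0, p) F) := by
        ext ⟨a, b⟩
        simp only [F, Finset.mem_insert, Finset.mem_filter, Finset.mem_antidiagonal, Prod.mk.injEq]
        omega
      rw [hall, hsplit, Finset.sum_insert (by simp [F]; have := hp.pos; omega), Finset.sum_insert (by simp [F]),
        Prod.fst_add, Prod.fst_add, Prod.fst_sum, ← add_assoc]
      refine congrArg₂ (· + ·) (by simp [qx, qy]) (Finset.sum_congr rfl fun k hk => by rw [hw k hk])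
    rw [e1, e2] at hq
    have hmn := mem_mul hX hY (mem_pow hX hY (mem_add hmX hmY) (n % p)) hq
    have hL : Mem (gPow p d) x y ((n ! : ℚ)⁻¹ • Z ^ n, gPow p d n (x + y)) := by
      refine mem_div (eNum_ne_zero hp n) (hA _ (not_dvd_eNum hp n)) ?_
      convert hmn using 1
      refine Prod.ext ?_ ?_
      · simp only [Prod.smul_fst, Prod.fst_mul, Prod.pow_fst, X, Y, Prod.fst_add, smul_pow, ← pow_mul,
          mul_smul_comm, smul_smul, ← pow_add, Z, Nat.mod_add_div]
        rw [← Nat.cast_smul_eq_nsmul ℚ, smul_smul]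
        congr 1
        have h := eNum_spec hp n
        have hq' : (eNum p n : ℚ) * ((p ! : ℚ) ^ (n / p) * ((n / p)! : ℚ)) = (n ! : ℚ) := by exact_mod_cast h
        have n1 : (n ! : ℚ) ≠ 0 := by exact_mod_cast Nat.factorial_ne_zero _
        have n2 : (p ! : ℚ) ≠ 0 := by exact_mod_cast Nat.factorial_ne_zero _
        have n3 : ((n / p)! : ℚ) ≠ 0 := by exact_mod_cast Nat.factorial_ne_zero _
        rw [inv_pow]
        field_simp
        linear_combination hq'
      · simp only [Prod.smul_snd, Prod.snd_mul, Prod.pow_snd, X, Y, Prod.snd_add, nsmul_eq_mul]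
        exact eNum_mul_gPow hp hA n (x + y)
    refine snd_eq hL ?_
    have e : ((n ! : ℚ)⁻¹ • Z ^ n, (Finset.antidiagonal n).sum fun k => gPow p d k.1 x * gPow p d k.2 y) =
        (Finset.antidiagonal n).sum (gen (gPow p d) x y) := by
      refine Prod.ext ?_ ?_
      · simp only [Z, gen, Prod.fst_sum]
        rw [(Commute.all _ _).add_pow', Finset.smul_sum]
        refine Finset.sum_congr rfl fun k hk => ?_
        rw [Finset.mem_antidiagonal] at hk
        subst hk
        rw [← Nat.cast_smul_eq_nsmul ℚ, smul_smul]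
        congr 1
        have h1 := choose_cast_mul k.1 k.2
        have n0 : ((k.1 + k.2)! : ℚ) ≠ 0 := by exact_mod_cast Nat.factorial_ne_zero _
        field_simp
        linear_combination h1
      · simp only [gen, Prod.snd_sum]
    rw [e]
    exact mem_sum _ _ fun k _ => mem_gen k

include hp hA hdI h1 h2 in
theorem gPow_comp : ∀ (n m : ℕ) (x : A), n ≠ 0 → x ∈ I →
    gPow p d m (gPow p d n x) = Nat.uniformBell m n * gPow p d (m * n) x := by
  intro n
  induction n using Nat.strong_induction_on with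
  | _ n ih =>
    intro m x hn hx
    have hmlt : n / p < n := Nat.div_lt_self (by omega) hp.one_lt
    have hX := gPow_mult hp hA hdI h1 hx
    have h0 := gPow_mult hp hA hdI h1 I.zero_mem
    have hu := hA _ (not_dvd_eNum hp n)
    have hgj : ∀ j : ℕ, ((j ! : ℚ)⁻¹ • MvPolynomial.X (0 : Fin 2) ^ j, gPow p d j x) = gen (gPow p d) x 0 (j, 0) :=
      fun j => by simp [gen, gPow_zero]
    have hmul : ∀ j ≤ m, ∀ a b : A, b ∈ I → gPow p d j (a * b) = a ^ j * gPow p d j b :=
      fun j _ => gPow_mul hp hdI h2 j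
    let X : MvPolynomial (Fin 2) ℚ × A := (MvPolynomial.X 0, x)
    have hgX : gen (gPow p d) x 0 (1, 0) = X := by simp [gen, X, gPow_one hp, gPow_zero]
    have hmX : Mem (gPow p d) x 0 X := hgX ▸ mem_gen _
    let T : MvPolynomial (Fin 2) ℚ × A :=
      (((n / p)! : ℚ)⁻¹ • ((p ! : ℚ)⁻¹ • MvPolynomial.X 0 ^ p) ^ (n / p), gPow p d (n / p) (d x))
    let ce : MvPolynomial (Fin 2) ℚ × A := ((eNum p n : ℚ)⁻¹ • 1, Ring.inverse (eNum p n : A))
    have hce : Mem (gPow p d) x 0 ce := by
      refine mem_div (eNum_ne_zero hp n) hu ?_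
      convert mem_one hX h0 using 1
      refine Prod.ext ?_ ?_
      · simp only [ce, Prod.smul_fst, Prod.fst_one]
        rw [← Nat.cast_smul_eq_nsmul ℚ, smul_smul, mul_inv_cancel₀ (by exact_mod_cast eNum_ne_zero hp n), one_smul]
      · simp only [ce, Prod.smul_snd, Prod.snd_one, nsmul_eq_mul]
        exact Ring.mul_inverse_cancel _ hu
    have hval : (ce * X ^ (n % p) * T).1 = (n ! : ℚ)⁻¹ • MvPolynomial.X (0 : Fin 2) ^ n := by
      simp only [ce, X, T, Prod.fst_mul, Prod.pow_fst, smul_pow, ← pow_mul, smul_mul_assoc, one_mul, mul_smul_comm,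
        smul_smul, ← pow_add, Nat.mod_add_div]
      congr 1
      have h := eNum_spec hp n
      have hq' : (eNum p n : ℚ) * ((p ! : ℚ) ^ (n / p) * ((n / p)! : ℚ)) = (n ! : ℚ) := by exact_mod_cast h
      have n1 : (n ! : ℚ) ≠ 0 := by exact_mod_cast Nat.factorial_ne_zero _
      have n2 : (p ! : ℚ) ≠ 0 := by exact_mod_cast Nat.factorial_ne_zero _
      have n3 : ((n / p)! : ℚ) ≠ 0 := by exact_mod_cast Nat.factorial_ne_zero _
      have n4 : (eNum p n : ℚ) ≠ 0 := by exact_mod_cast eNum_ne_zero hp n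
      rw [inv_pow]
      field_simp
      linear_combination -hq'
    have hDP : DP m (gPow p d) x 0 I (ce * X ^ (n % p) * T) := by
      rcases eq_or_ne (n % p) 0 with h | h
      · rw [h, pow_zero, mul_one]
        have hq0 : n / p ≠ 0 := fun h0' => by
          have := Nat.mod_add_div n p; rw [h, h0', mul_zero] at this; omega
        refine DP.mul hX h0 hmul hce ⟨gPow_mem hp hdI _ _ hq0 (hdI x hx), fun j _ => ?_⟩
        have e := mem_nsmul (Nat.uniformBell j (n / p)) (mem_dx hp hA (d := d) (x := x) (gPow_zero (0 : A)) (j * (n / p)))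
        convert e using 1
        refine Prod.ext ?_ ?_
        · simp only [T, Prod.smul_fst, smul_pow, ← pow_mul, smul_smul]
          rw [← Nat.cast_smul_eq_nsmul ℚ, smul_smul]
          rw [show p * (n / p) * j = p * (j * (n / p)) by ring]
          congr 1
          rw [mul_pow, ← mul_assoc, smul_pair_eq j (n / p) hq0, ← pow_mul, mul_comm (n / p) j, mul_assoc]
        · simp only [T, Prod.smul_snd, nsmul_eq_mul]
          exact ih (n / p) hmlt j _ hq0 (hdI x hx)
      · obtain ⟨r, hr⟩ : ∃ r, n % p = r + 1 := ⟨n % p - 1, by omega⟩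
        rw [hr, pow_succ, show ce * (X ^ r * X) * T = ce * X ^ r * T * X by ring]
        refine DP.mul hX h0 hmul (mem_mul hX h0 (mem_mul hX h0 hce (mem_pow hX h0 hmX r))
          (mem_dx hp hA (gPow_zero (0 : A)) (n / p))) ⟨hx, fun j _ => hgj j ▸ mem_gen _⟩
    have hsnd : (ce * X ^ (n % p) * T).2 = gPow p d n x := by
      simp only [ce, X, T, Prod.snd_mul, Prod.pow_snd]
      exact (gPow_eq hp hn x).symm
    have hm := hDP.2 m le_rfl
    rw [hval, hsnd] at hm
    refine snd_eq hm ?_
    convert mem_nsmul (Nat.uniformBell m n) (mem_gen (d := gPow p d) (x := x) (y := 0) (m * n, 0)) using 1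
    refine Prod.ext ?_ ?_
    · simp only [gen, Prod.smul_fst, pow_zero, mul_one, Nat.factorial_zero, Nat.cast_one, smul_pow, ← pow_mul, smul_smul]
      rw [← Nat.cast_smul_eq_nsmul ℚ, smul_smul, smul_pair_eq m n hn, mul_comm n m]
    · simp [gen, gPow_zero, nsmul_eq_mul]

include hp hA hdI h1 h2 h3 in
theorem existsUnique_of_prime : ∃! γ : DividedPowers I, ∀ x ∈ I, γ.dpow p x = d x := by
  classical
  let D : ℕ → A → A := fun n x => if x ∈ I then gPow p d n x else 0
  have hD : ∀ n, ∀ x ∈ I, D n x = gPow p d n x := fun n x hx => if_pos hx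
  let γ : DividedPowers I := ofGens I I (Ideal.span_eq I) D
    (fun x hx => by rw [hD _ x hx, gPow_zero])
    (fun x hx => by rw [hD _ x hx, gPow_one hp])
    (fun n x hn hx => by rw [hD _ x hx]; exact gPow_mem hp hdI n x hn hx)
    (fun n x y hx hy => by
      rw [hD _ _ (I.add_mem hx hy), gPow_add hp hA hdI h1 h2 h3 n x y hx hy]
      exact Finset.sum_congr rfl fun k _ => by rw [hD _ x hx, hD _ y hy])
    (fun n a x hx => by rw [hD _ _ (I.mul_mem_left a hx), hD _ x hx]; exact gPow_mul hp hdI h2 n a x hx)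
    (fun n x hx => if_neg hx)
    (fun m n x hx => by simp only [hD _ x hx]; exact (gPow_mult hp hA hdI h1 hx).mul m n)
    (fun m n x hn hx => by
      rw [hD _ x hx, hD _ x hx, hD _ _ (gPow_mem hp hdI n x hn hx)]
      exact gPow_comp hp hA hdI h1 h2 n m x hn hx)
  have hγ : ∀ x ∈ I, γ.dpow p x = d x := fun x hx => by
    show D p x = d x
    rw [hD _ x hx, gPow_eq hp hp.ne_zero, Nat.mod_self, Nat.div_self hp.pos, pow_zero, mul_one, gPow_one hp]
    have : eNum p p = 1 := by simp [eNum, Nat.mod_self, Nat.div_self hp.pos, Nat.uniformBell_one_left]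
    rw [this]; simp
  exact ⟨γ, hγ, fun γ' h' => (eq_iff_prime p hp hA γ' γ).mpr fun x hx => by rw [h' x hx, hγ x hx]⟩

end Groth.Agent.DPowH7
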